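import Cfsg.Agent.Lib.Sporadic.J4Order.Word
import Cfsg.Agent.Lib.Sporadic.J4Out.Data

/-!
# Certificates for fixed spaces in the representation of J4 (owner: helper21)

A list of columns `K`, coordinates `C` and maps `Ls` show that a vector fixed by some words is `app K (app C v)`.
-/

set_option autoImplicit false
set_option maxRecDepth 40000

namespace CfsgLib.Sporadic.J4Out

open CfsgLib.Sporadic.J4Rep (V app runW app_xor app_zero app_lt runW_xor runW_zero)
open CfsgLib.Sporadic.J4Order (tbl2 el el_apply)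

/-- A property closed under sums holds on the image of a map whose columns have it. -/
theorem app_mem {S : ℕ → Prop} (h0 : S 0) (hx : ∀ a b, S a → S b → S (a ^^^ b)) :
    ∀ A : List ℕ, (∀ c ∈ A, S c) → ∀ v, S (app A v)
  | [], _, _ => h0
  | c :: A, h, v => by
    rw [J4Rep.app_cons]
    refine hx _ _ ?_ (app_mem h0 hx A (fun d hd => h d (List.mem_cons_of_mem _ hd)) _)
    split_ifs
    · exact h c List.mem_cons_self
    · exact h0

/-- Additive maps agreeing on the first `n` unit vectors agree below `2 ^ n`. -/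
theorem eq_of_units {f g : ℕ → ℕ} (hf : ∀ a b, f (a ^^^ b) = f a ^^^ f b)
    (hg : ∀ a b, g (a ^^^ b) = g a ^^^ g b) :
    ∀ n, (∀ i < n, f (2 ^ i) = g (2 ^ i)) → ∀ v < 2 ^ n, f v = g v
  | 0, _, v, hv => by
    obtain rfl : v = 0 := by simpa using hv
    have h1 := hf 0 0
    have h2 := hg 0 0
    simp only [Nat.xor_self] at h1 h2
    rw [h1, h2]
  | n + 1, h, v, hv => by
    by_cases hn : v < 2 ^ n
    · exact eq_of_units hf hg n (fun i hi => h i (by omega)) v hn
    · have hlow : v ^^^ 2 ^ n < 2 ^ n := by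
        refine Nat.lt_pow_two_of_testBit _ fun i hi => ?_
        rw [Nat.testBit_xor, Nat.testBit_two_pow]
        rcases Nat.lt_or_eq_of_le hi with hi' | rfl
        · rw [Nat.testBit_eq_false_of_lt (lt_of_lt_of_le hv (Nat.pow_le_pow_right (by norm_num) hi'))]
          simp [Nat.ne_of_lt hi']
        · have : v / 2 ^ n = 1 := Nat.div_eq_of_lt_le (by omega) (by rw [pow_succ] at hv; omega)
          simp [Nat.testBit_eq_decide_div_mod_eq, this]
      have e : v = (v ^^^ 2 ^ n) ^^^ 2 ^ n := by rw [Nat.xor_assoc, Nat.xor_self, Nat.xor_zero]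
      rw [e, hf, hg, eq_of_units hf hg n (fun i hi => h i (by omega)) _ hlow, h n (by omega)]

theorem app_runW_diff (w A : List ℕ) (a b : ℕ) :
    app A (runW tbl2 w (a ^^^ b) ^^^ (a ^^^ b)) = app A (runW tbl2 w a ^^^ a) ^^^ app A (runW tbl2 w b ^^^ b) := by
  rw [← app_xor, runW_xor]
  congr 1
  ac_rfl

/-- The sum of the maps applied to the differences. -/
noncomputable def diffs (ps : List (List ℕ × List ℕ)) (v : ℕ) : ℕ :=
  List.rec (motive := fun _ => ℕ) 0 (fun p _ ih => Nat.xor (app p.2 (Nat.xor (runW tbl2 p.1 v) v)) ih) ps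

theorem diffs_cons (p : List ℕ × List ℕ) (ps : List (List ℕ × List ℕ)) (v : ℕ) :
    diffs (p :: ps) v = app p.2 (runW tbl2 p.1 v ^^^ v) ^^^ diffs ps v := rfl

theorem diffs_xor : ∀ (ps : List (List ℕ × List ℕ)) (a b : ℕ), diffs ps (a ^^^ b) = diffs ps a ^^^ diffs ps b
  | [], _, _ => (Nat.xor_self 0).symm
  | p :: ps, a, b => by
    rw [diffs_cons, diffs_cons, diffs_cons, diffs_xor ps, app_runW_diff]
    ac_rfl

theorem diffs_fixed : ∀ (ps : List (List ℕ × List ℕ)) {v : ℕ}, (∀ p ∈ ps, runW tbl2 p.1 v = v) → diffs ps v = 0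
  | [], _, _ => rfl
  | p :: ps, v, h => by
    rw [diffs_cons, h p List.mem_cons_self, diffs_fixed ps fun q hq => h q (List.mem_cons_of_mem _ hq),
      Nat.xor_self, app_zero, Nat.xor_self]

/-- The check of a certificate. -/
noncomputable def fixCert (K C : List ℕ) (ps : List (List ℕ × List ℕ)) : Bool :=
  (List.range 112).all fun i =>
    Nat.beq (Nat.xor (app K (app C (Nat.shiftLeft 1 i))) (diffs ps (Nat.shiftLeft 1 i))) (Nat.shiftLeft 1 i)

theorem eq_app_of_fixed {K C : List ℕ} {ps : List (List ℕ × List ℕ)} (h : fixCert K C ps = true) {v : ℕ}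
    (hv : v < 2 ^ 112) (hfix : ∀ p ∈ ps, runW tbl2 p.1 v = v) : v = app K (app C v) := by
  have key := eq_of_units (f := fun v => app K (app C v) ^^^ diffs ps v) (g := fun v => v)
    (fun a b => by simp only [app_xor, diffs_xor]; ac_rfl) (fun _ _ => rfl) 112 (fun i hi => by
      have h' := List.all_eq_true.1 h i (List.mem_range.2 hi)
      rw [← Nat.one_shiftLeft]
      exact Nat.eq_of_beq_eq_true h') v hv
  simp only [diffs_fixed ps hfix, Nat.xor_zero] at key
  exact key.symm

/-- The fixed vectors of a permutation. -/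
abbrev Fx (σ : Equiv.Perm V) : Type := {v : V // σ v = v}

theorem card_fixed_le {K C w : List ℕ} {L : List ℕ} {n : ℕ} (hw : ∀ k ∈ w, k < 17) (hC : ∀ c ∈ C, c < 2 ^ n)
    (h : fixCert K C [(w, L)] = true) : Nat.card (Fx (el w)) ≤ 2 ^ n := by
  let f : Fx (el w) → Fin (2 ^ n) := fun v => ⟨app C v.1.1, app_lt hC _⟩
  have hf : Function.Injective f := by
    intro a b e
    have e' : app C a.1.1 = app C b.1.1 := congrArg Fin.val e
    have fx : ∀ v : Fx (el w), v.1.1 = app K (app C v.1.1) := fun v =>
      eq_app_of_fixed h v.1.2 fun p hp => by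
        rw [List.mem_singleton] at hp
        subst hp
        show runW tbl2 w v.1.1 = v.1.1
        rw [← el_apply hw, v.2]
    exact Subtype.ext (Subtype.ext (by rw [fx a, fx b, e']))
  exact (Nat.card_le_card_of_injective f hf).trans (le_of_eq (Nat.card_fin _))

/-- The check that independent vectors are fixed. -/
noncomputable def loCert (K C w : List ℕ) (n : ℕ) : Bool :=
  K.all (fun c => Nat.blt c 5192296858534827628530496329220096 && Nat.beq (runW tbl2 w c) c) &&
    (List.range n).all fun i => Nat.beq (app C (app K (Nat.shiftLeft 1 i))) (Nat.shiftLeft 1 i)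

theorem le_card_fixed {K C w : List ℕ} {n : ℕ} (hw : ∀ k ∈ w, k < 17) (h : loCert K C w n = true) :
    2 ^ n ≤ Nat.card (Fx (el w)) := by
  simp only [loCert, Bool.and_eq_true, List.all_eq_true, Nat.blt_eq] at h
  obtain ⟨h1, h2⟩ := h
  have hlt : ∀ a, app K a < 2 ^ 112 := app_lt fun c hc => lt_of_lt_of_eq (h1 c hc).1 (by norm_num)
  have hfix : ∀ a, runW tbl2 w (app K a) = app K a := fun a =>
    app_mem (S := fun x => runW tbl2 w x = x) (runW_zero _ _) (fun x y hx hy => by rw [runW_xor, hx, hy]) K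
      (fun c hc => Nat.eq_of_beq_eq_true (h1 c hc).2) a
  let f : Fin (2 ^ n) → Fx (el w) := fun a =>
    ⟨⟨app K a.1, hlt _⟩, Subtype.ext (by rw [el_apply hw]; exact hfix _)⟩
  have hinv := eq_of_units (f := fun a => app C (app K a)) (g := fun a => a)
    (fun a b => by simp only [app_xor]) (fun _ _ => rfl) n (fun i hi => by
      have h' := h2 i (List.mem_range.2 hi)
      rw [← Nat.one_shiftLeft]
      exact Nat.eq_of_beq_eq_true h')
  have hf : Function.Injective f := by
    intro a b e
    have e' : app K a.1 = app K b.1 := congrArg (fun v : Fx (el w) => v.1.1) e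
    exact Fin.ext (by rw [← hinv a.1 a.2, ← hinv b.1 b.2, e'])
  exact (le_of_eq (Nat.card_fin _).symm).trans (Nat.card_le_card_of_injective f hf)

theorem card_fixed_conj {σ τ g : Equiv.Perm V} (h : τ = g * σ * g⁻¹) : Nat.card (Fx τ) = Nat.card (Fx σ) := by
  subst h
  refine (Nat.card_congr ?_).symm
  exact
    { toFun := fun v => ⟨g v.1, by simp [v.2]⟩
      invFun := fun v => ⟨g⁻¹ v.1, by
        have h := congrArg (g⁻¹ : Equiv.Perm V) v.2
        simpa using h⟩
      left_inv := fun v => Subtype.ext (by simp)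
      right_inv := fun v => Subtype.ext (by simp) }

end CfsgLib.Sporadic.J4Out
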