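import Cfsg.Agent.Lib.Sporadic.J4Out.Sylow
import Cfsg.Agent.Lib.Sporadic.MathieuAut

/-!
# Every automorphism of the presented J4 is inner (owner: helper21)

An automorphism may be changed by inner ones until it fixes the Sylow 2-subgroup, hence the translations and their
normaliser, hence the second generator and the translations pointwise. The other class of complements is excluded
by a fixed space, and the third generator is then determined by its centraliser in the normaliser.
-/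

set_option autoImplicit false
set_option maxRecDepth 40000

namespace CfsgLib.Sporadic.J4Out

open Cfsg
open CfsgLib.Sporadic.J4Inj (jk jT uWord Eg Nh gwG)
open CfsgLib.Sporadic.J4Rep (V toJ4 rho app runW app_xor)
open CfsgLib.Sporadic.J4Order (strict strict_eq eqW el el_eq el_apply okW_iff tbl2 eA eG let2 tP conjX conjY vecAt vA oneV
  oneVec eW)

instance : Finite Spor.J4 := Nat.finite_of_card_ne_zero (by rw [J4Inj.isJ4.2]; norm_num)

/-! ### reductions by inner automorphisms -/

/-- Two automorphisms that differ by an inner one. -/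
theorem inn_of_mul {φ : MulAut Spor.J4} {g : Spor.J4} (h : MulAut.conj g * φ ∈ Cfsg.Inn Spor.J4) :
    φ ∈ Cfsg.Inn Spor.J4 := by
  have := mul_mem (inv_mem (⟨g, rfl⟩ : MulAut.conj g ∈ Cfsg.Inn Spor.J4)) h
  rwa [inv_mul_cancel_left] at this

theorem not_dvd_index : ¬ 2 ∣ PS.index := by
  intro hd
  have h := PS.card_mul_index
  rw [card_PS, J4Inj.isJ4.2] at h
  obtain ⟨m, hm⟩ := hd
  have h2 : (2 : ℕ) ^ 22 ∣ 86775571046077562880 := ⟨m, by rw [← h, hm]; ring⟩
  norm_num at h2

theorem exists_fix_PS (φ : MulAut Spor.J4) : ∃ g, PS.map (MulAut.conj g * φ).toMonoidHom = PS := by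
  haveI : Fact (Nat.Prime 2) := ⟨Nat.prime_two⟩
  have hP : IsPGroup 2 PS := IsPGroup.of_card card_PS
  have hQ : IsPGroup 2 (PS.map φ.toMonoidHom) := hP.map _
  have hi : ¬ 2 ∣ (PS.map φ.toMonoidHom).index := by
    rw [show φ.toMonoidHom = ((φ : Spor.J4 ≃* Spor.J4) : Spor.J4 →* Spor.J4) from rfl, Subgroup.index_map_equiv]
    exact not_dvd_index
  obtain ⟨g, hg⟩ := MulAction.exists_smul_eq Spor.J4 (hQ.toSylow hi) (hP.toSylow not_dvd_index)
  refine ⟨g, ?_⟩
  have h := congrArg Sylow.toSubgroup hg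
  rw [Sylow.coe_subgroup_smul, IsPGroup.toSylow_coe, IsPGroup.toSylow_coe] at h
  rw [show (MulAut.conj g * φ).toMonoidHom = (MulAut.conj g).toMonoidHom.comp φ.toMonoidHom from rfl,
    ← Subgroup.map_map]
  exact h

section Alpha

variable {α : MulAut Spor.J4}

theorem fix_EH (h : PS.map α.toMonoidHom = PS) : EH.map α.toMonoidHom = EH := by
  refine eq_EH ?_ ?_ ?_ ?_
  · exact (Subgroup.map_mono EH_le_PS).trans h.le
  · rintro _ ⟨x, ⟨a, -, rfl⟩, rfl⟩
    rw [← map_mul, J4Inj.Eg_sq, map_one]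
  · rintro p hp _ ⟨x, hx, rfl⟩
    obtain ⟨q, hq, rfl⟩ := (h.symm ▸ hp : p ∈ PS.map α.toMonoidHom)
    exact ⟨q * x * q⁻¹, conj_EH (PS_le hq) hx, by rw [map_mul, map_mul, map_inv]⟩
  · rw [Subgroup.card_map_of_injective α.injective, card_EH]

theorem fix_Nh (h : EH.map α.toMonoidHom = EH) : Nh.map α.toMonoidHom = Nh := by
  refine Subgroup.eq_of_le_of_card_ge ?_ (le_of_eq (Subgroup.card_map_of_injective α.injective).symm)
  rintro _ ⟨x, hx, rfl⟩
  refine mem_Nh_of_normalizes fun e he => ?_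
  obtain ⟨e', he', rfl⟩ := (h.symm ▸ he : e ∈ EH.map α.toMonoidHom)
  rw [← h]
  exact ⟨x * e' * x⁻¹, conj_EH hx he', by rw [map_mul, map_mul, map_inv]⟩

/-- The translations and their normaliser are fixed. -/
structure Fixes (α : MulAut Spor.J4) : Prop where
  eh : EH.map α.toMonoidHom = EH
  nh : Nh.map α.toMonoidHom = Nh

theorem Fixes.mem (h : Fixes α) {x : Spor.J4} (hx : x ∈ Nh) : α x ∈ Nh := h.nh ▸ ⟨x, hx, rfl⟩

theorem Fixes.eg (h : Fixes α) {v : ℕ} (hv : v < 2048) : ∃ w < 2048, α (Eg v) = Eg w :=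
  (h.eh ▸ ⟨Eg v, ⟨v, hv, rfl⟩, rfl⟩ : α (Eg v) ∈ EH)

theorem Fixes.conj (h : Fixes α) {g : Spor.J4} (hg : g ∈ Nh) : Fixes (MulAut.conj g * α) := by
  have hE : EH.map (MulAut.conj g).toMonoidHom = EH := by
    refine Subgroup.eq_of_le_of_card_ge ?_ (le_of_eq (Subgroup.card_map_of_injective (MulAut.conj g).injective).symm)
    rintro _ ⟨x, hx, rfl⟩
    exact conj_EH hg hx
  have e : (MulAut.conj g * α).toMonoidHom = (MulAut.conj g).toMonoidHom.comp α.toMonoidHom := rfl
  have h1 : EH.map (MulAut.conj g * α).toMonoidHom = EH := by rw [e, ← Subgroup.map_map, h.eh, hE]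
  exact ⟨h1, fix_Nh h1⟩

/-- The action on the copy of M24. -/
noncomputable def beta (h : Fixes α) : J4Pres.K0 →* J4Pres.K0 :=
  proj.comp (((α.toMonoidHom).comp toJ4).codRestrict Nh fun k =>
    h.mem ⟨0, by norm_num, k, by rw [J4Inj.Eg_zero, one_mul]⟩)

theorem beta_spec (h : Fixes α) (k : J4Pres.K0) : ∃ a < 2048, α (toJ4 k) = Eg a * toJ4 (beta h k) :=
  exists_split ⟨α (toJ4 k), h.mem ⟨0, by norm_num, k, by rw [J4Inj.Eg_zero, one_mul]⟩⟩

theorem beta_injective (h : Fixes α) : Function.Injective (beta h) := by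
  rw [injective_iff_map_eq_one]
  intro k hk
  obtain ⟨a, ha, e⟩ := beta_spec h k
  rw [hk, map_one, mul_one] at e
  have hmem : α (toJ4 k) ∈ EH.map α.toMonoidHom := by rw [h.eh]; exact ⟨a, ha, e⟩
  obtain ⟨_, ⟨b, hb, rfl⟩, e'⟩ := hmem
  have e2 : Eg b = toJ4 k := α.injective e'
  exact ((split hb (a := b) (b := 0) (k := 1) (l := k) (by norm_num)
    (by rw [J4Inj.Eg_zero, one_mul, map_one, mul_one, e2])).2).symm

theorem beta_inner (h : Fixes α) : ∃ s, ∀ k, beta h k = s * k * s⁻¹ := by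
  haveI : Finite J4Pres.K0 := J4Pres.card_K0.1
  let b : MulAut J4Pres.K0 := MulEquiv.ofBijective (beta h) (Finite.injective_iff_bijective.1 (beta_injective h))
  let e : J4Pres.K0 ≃* ↥M24 :=
    MulEquiv.ofBijective J4Pres.toM24 ⟨J4Pres.toM24_injective, J4Pres.toM24_surjective⟩
  obtain ⟨s, hs⟩ := MathieuAut.M24_aut_inner (e.symm.trans (b.trans e))
  refine ⟨e.symm s, fun k => e.injective ?_⟩
  have h1 := DFunLike.congr_fun hs (e k)
  simp only [MulAut.conj_apply, MulEquiv.trans_apply, MulEquiv.symm_apply_apply] at h1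
  rw [map_mul, map_mul, map_inv, MulEquiv.apply_symm_apply, h1]
  rfl

/-- The translations and their normaliser are fixed, and the action on the copy of M24 is trivial. -/
structure Level (α : MulAut Spor.J4) : Prop where
  fixes : Fixes α
  lift : ∀ k, ∃ a < 2048, α (toJ4 k) = Eg a * toJ4 k

theorem exists_level (h : Fixes α) : ∃ g, Level (MulAut.conj g * α) := by
  obtain ⟨s, hs⟩ := beta_inner h
  have hmem : (toJ4 s)⁻¹ ∈ Nh := inv_mem ⟨0, by norm_num, s, by rw [J4Inj.Eg_zero, one_mul]⟩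
  refine ⟨(toJ4 s)⁻¹, h.conj hmem, fun k => ?_⟩
  obtain ⟨a, ha, e⟩ := beta_spec h k
  obtain ⟨c, hc, ec⟩ := J4Inj.conj_all s⁻¹ a ha
  rw [map_inv] at ec
  refine ⟨c, hc, ?_⟩
  rw [MulAut.mul_apply, MulAut.conj_apply, e, hs, map_mul, map_mul, map_inv, ← ec]
  group

theorem Level.conj (h : Level α) {c : ℕ} (hc : c < 2048) : Level (MulAut.conj (Eg c) * α) := by
  refine ⟨h.fixes.conj (J4Inj.Eg_mem hc), fun k => ?_⟩
  obtain ⟨a, ha, e⟩ := h.lift k
  obtain ⟨c', hc', ec⟩ := J4Inj.conj_all k c hc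
  refine ⟨c ^^^ a ^^^ c', Nat.xor_lt_two_pow (n := 11) (Nat.xor_lt_two_pow (n := 11) hc ha) hc', ?_⟩
  rw [MulAut.mul_apply, MulAut.conj_apply, e, inv_eq_of_mul_eq_one_right (J4Inj.Eg_sq c), J4Inj.Eg_xor,
    J4Inj.Eg_xor, ← ec]
  group

theorem jk_single (k : ℕ) : jk [k] = toJ4 (J4Pres.L k) := by simp [jk, J4Pres.val]

theorem exists_fix_y (h : Level α) : ∃ g, Level (MulAut.conj g * α) ∧ (MulAut.conj g * α) (jk [2]) = jk [2] := by
  obtain ⟨b, hb, e⟩ := h.lift (J4Pres.L 2)
  rw [← jk_single] at e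
  have hY3 : jk [2] * jk [2] * jk [2] = 1 := by
    rw [← J4Inj.jk_append, ← J4Inj.jk_append]
    exact J4Inj.jk_eq_one (by decide +kernel)
  have hlt : ∀ {a}, app conjY a < 2048 := fun {a} => J4Order.cj_lt 1 a (by norm_num)
  have h3 : b ^^^ app conjY b ^^^ app conjY (app conjY b) = 0 := by
    refine Eg_inj (Nat.xor_lt_two_pow (n := 11) (Nat.xor_lt_two_pow (n := 11) hb hlt) hlt) (by norm_num) ?_
    have h1 := congrArg α hY3
    rw [map_mul, map_mul, e, map_one] at h1
    rw [J4Inj.Eg_xor, J4Inj.Eg_xor, ← J4Inj.Eg_conj_y hlt, ← J4Inj.Eg_conj_y hb, J4Inj.Eg_zero]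
    calc Eg b * (jk [2] * Eg b * (jk [2])⁻¹) * (jk [2] * (jk [2] * Eg b * (jk [2])⁻¹) * (jk [2])⁻¹)
        = Eg b * jk [2] * (Eg b * jk [2]) * (Eg b * jk [2]) * (jk [2] * jk [2] * jk [2])⁻¹ := by group
      _ = 1 := by rw [h1, hY3]; group
  refine ⟨Eg (app conjY b), h.conj hlt, ?_⟩
  rw [MulAut.mul_apply, MulAut.conj_apply, e, inv_eq_of_mul_eq_one_right (J4Inj.Eg_sq _)]
  have hc : app conjY b ^^^ b ^^^ app conjY (app conjY b) = 0 := by rw [Nat.xor_comm (app conjY b) b, h3]
  calc Eg (app conjY b) * (Eg b * jk [2]) * Eg (app conjY b)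
      = Eg (app conjY b) * Eg b * (jk [2] * Eg (app conjY b) * (jk [2])⁻¹) * jk [2] := by group
    _ = jk [2] := by rw [J4Inj.Eg_conj_y hlt, ← J4Inj.Eg_xor, ← J4Inj.Eg_xor, hc, J4Inj.Eg_zero, one_mul]

/-- The derivation on a word. -/
noncomputable def dW (a : ℕ) (w : List ℕ) : ℕ :=
  List.rec (motive := fun _ => ℕ) 0
    (fun k _ ih => cond (Nat.beq k 0) (Nat.xor a (app conjX ih)) (app conjY ih)) w

theorem apply_word {a : ℕ} (ha : a < 2048) (hx : α (jk [0]) = Eg a * jk [0]) (hy : α (jk [2]) = jk [2]) :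
    ∀ {w : List ℕ}, twoLow w = true → dW a w < 2048 ∧ α (jk w) = Eg (dW a w) * jk w
  | [], _ => ⟨by simp [dW], by simp [dW, J4Inj.jk_nil, J4Inj.Eg_zero]⟩
  | k :: w, h => by
    simp only [twoLow, List.all_cons, Bool.and_eq_true, Bool.or_eq_true] at h
    obtain ⟨h1, h2⟩ := apply_word ha hx hy (w := w) h.2
    rcases h.1 with hk | hk <;> obtain rfl := Nat.eq_of_beq_eq_true hk
    · show a ^^^ app conjX (dW a w) < 2048 ∧ _ = Eg (a ^^^ app conjX (dW a w)) * _
      refine ⟨Nat.xor_lt_two_pow (n := 11) ha (J4Order.cj_lt 0 _ (by norm_num)), ?_⟩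
      rw [show 0 :: w = [0] ++ w from rfl, J4Inj.jk_append, map_mul, hx, h2, J4Inj.Eg_xor,
        ← J4Inj.Eg_conj_x h1]
      group
    · show app conjY (dW a w) < 2048 ∧ _ = Eg (app conjY (dW a w)) * _
      refine ⟨J4Order.cj_lt 1 _ (by norm_num), ?_⟩
      rw [show 2 :: w = [2] ++ w from rfl, J4Inj.jk_append, map_mul, hy, h2, ← J4Inj.Eg_conj_y h1]
      group

/-- The two relators used. -/
def derRels : List (List ℕ) := [[0, 0], (List.replicate 23 [0, 2]).flatten]

theorem der_check : (derRels.all (fun r => twoLow r && Nat.beq (J4Pres.pword r) pone) &&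
    (List.range 2048).all (fun a => !(derRels.all fun r => Nat.beq (dW a r) 0) ||
      (List.range 2048).any fun c => Nat.beq (app conjY c) c &&
        (Nat.beq (Nat.xor (Nat.xor c a) (app conjX c)) 0 || Nat.beq (Nat.xor (Nat.xor c a) (app conjX c)) 30))) =
    true := by decide +kernel

theorem exists_fix_xy (h : Level α) (hy : α (jk [2]) = jk [2]) : ∃ g, Level (MulAut.conj g * α) ∧
    (MulAut.conj g * α) (jk [2]) = jk [2] ∧
    ((MulAut.conj g * α) (jk [0]) = jk [0] ∨ (MulAut.conj g * α) (jk [0]) = Eg 30 * jk [0]) := by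
  obtain ⟨a, ha, hx⟩ := h.lift (J4Pres.L 0)
  rw [← jk_single] at hx
  have hc := der_check
  rw [Bool.and_eq_true, List.all_eq_true, List.all_eq_true] at hc
  have hr : derRels.all (fun r => Nat.beq (dW a r) 0) = true := by
    refine List.all_eq_true.2 fun r hr => ?_
    have h' := hc.1 r hr
    rw [Bool.and_eq_true] at h'
    obtain ⟨h1, h2⟩ := apply_word ha hx hy h'.1
    rw [J4Inj.jk_eq_one h'.2, map_one, mul_one] at h2
    rw [Eg_inj (b := 0) h1 (by norm_num) (by rw [← h2, J4Inj.Eg_zero])]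
    rfl
  have h2 := hc.2 a (List.mem_range.2 ha)
  rw [hr] at h2
  simp only [Bool.not_true, Bool.false_or, List.any_eq_true, List.mem_range, Bool.and_eq_true, Bool.or_eq_true]
    at h2
  obtain ⟨c, hc', hcy, hcx⟩ := h2
  have hlx : app conjX c < 2048 := J4Order.cj_lt 0 c (by norm_num)
  refine ⟨Eg c, h.conj hc', ?_, ?_⟩
  · rw [MulAut.mul_apply, MulAut.conj_apply, hy, inv_eq_of_mul_eq_one_right (J4Inj.Eg_sq c)]
    calc Eg c * jk [2] * Eg c = Eg c * (jk [2] * Eg c * (jk [2])⁻¹) * jk [2] := by group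
      _ = jk [2] := by
        rw [J4Inj.Eg_conj_y hc', Nat.eq_of_beq_eq_true hcy, J4Inj.Eg_sq, one_mul]
  · have e : (MulAut.conj (Eg c) * α) (jk [0]) = Eg (c ^^^ a ^^^ app conjX c) * jk [0] := by
      rw [MulAut.mul_apply, MulAut.conj_apply, hx, inv_eq_of_mul_eq_one_right (J4Inj.Eg_sq c), J4Inj.Eg_xor,
        J4Inj.Eg_xor, ← J4Inj.Eg_conj_x hc']
      group
    rcases hcx with hcx | hcx
    · left
      rw [e, show c ^^^ a ^^^ app conjX c = 0 from Nat.eq_of_beq_eq_true hcx, J4Inj.Eg_zero, one_mul]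
    · right
      rw [e, show c ^^^ a ^^^ app conjX c = 30 from Nat.eq_of_beq_eq_true hcx]

/-! ### the translations are fixed pointwise -/

theorem stab_check : (stabE.all (fun w => twoLow w && Nat.beq (cjW w fixedE) fixedE) &&
    (List.range 2048).all (fun v => !(stabE.all fun w => Nat.beq (cjW w v) v) || Nat.beq v 0 || Nat.beq v fixedE) &&
    Nat.blt fixedE 2048 && !Nat.beq fixedE 0) = true := by decide +kernel

theorem fix_translations (h : Level α) {a : ℕ} (ha : a < 2048) (hx : α (jk [0]) = Eg a * jk [0])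
    (hy : α (jk [2]) = jk [2]) : ∀ v < 2048, α (Eg v) = Eg v := by
  have hconj : ∀ {w : List ℕ}, twoLow w = true → ∀ {v u : ℕ}, v < 2048 → u < 2048 → α (Eg v) = Eg u →
      α (Eg (cjW w v)) = Eg (cjW w u) := by
    intro w hw v u hv hu e
    obtain ⟨hd, hd'⟩ := apply_word ha hx hy hw
    rw [← jk_conj hw hv, map_mul, map_mul, map_inv, hd', e, ← jk_conj hw hu]
    have hl := cjW_lt w hu
    calc Eg (dW a w) * jk w * Eg u * (Eg (dW a w) * jk w)⁻¹
        = Eg (dW a w) * (jk w * Eg u * (jk w)⁻¹) * (Eg (dW a w))⁻¹ := by group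
      _ = jk w * Eg u * (jk w)⁻¹ := by
        rw [jk_conj hw hu, inv_eq_of_mul_eq_one_right (J4Inj.Eg_sq _), ← J4Inj.Eg_xor, ← J4Inj.Eg_xor,
          Nat.xor_comm (dW a w), Nat.xor_assoc, Nat.xor_self, Nat.xor_zero]
  have hchk := stab_check
  simp only [Bool.and_eq_true, List.all_eq_true, Nat.blt_eq, Bool.not_eq_true'] at hchk
  obtain ⟨⟨⟨hst, hfix⟩, he⟩, hne⟩ := hchk
  have hE : α (Eg fixedE) = Eg fixedE := by
    obtain ⟨u, hu, e⟩ := h.fixes.eg he
    have hall : stabE.all (fun w => Nat.beq (cjW w u) u) = true := by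
      refine List.all_eq_true.2 fun w hw => ?_
      obtain ⟨h1, h2⟩ := hst w hw
      have e' := hconj h1 he hu e
      rw [Nat.eq_of_beq_eq_true h2, e] at e'
      rw [← Eg_inj hu (cjW_lt w hu) e']
      exact Nat.beq_refl u
    have h3 := hfix u (List.mem_range.2 hu)
    rw [hall] at h3
    simp only [Bool.not_true, Bool.false_or, Bool.or_eq_true] at h3
    rcases h3 with h3 | h3 <;> have h4 := Nat.eq_of_beq_eq_true h3 <;> subst h4
    · exfalso
      have h5 : Eg fixedE = 1 := α.injective (by rw [e, J4Inj.Eg_zero, map_one])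
      rw [Eg_inj he (by norm_num) (h5.trans J4Inj.Eg_zero.symm)] at hne
      simp at hne
    · exact e
  let U : Subgroup (Equiv.Perm V) := ((MonoidHom.eqLocus α.toMonoidHom (MonoidHom.id _)) ⊓ EH).map rho
  have hU : ∀ g < 2, J4Order.xyGen g ∈ Subgroup.normalizer (U : Set (Equiv.Perm V)) := by
    intro g hg
    rw [Subgroup.mem_normalizer_iff_map_conj_eq]
    refine Subgroup.eq_of_le_of_card_ge ?_
      (le_of_eq (Subgroup.card_map_of_injective (MulAut.conj (J4Order.xyGen g)).injective).symm)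
    rintro _ ⟨_, ⟨y, ⟨hy', v, hv, rfl⟩, rfl⟩, rfl⟩
    have hfixv : α (Eg v) = Eg v := hy'
    show J4Order.xyGen g * rho (Eg v) * (J4Order.xyGen g)⁻¹ ∈ U
    rw [J4Inj.rho_Eg hv, J4Order.eA_conj hg hv, ← J4Inj.rho_Eg (J4Order.cj_lt g v hg)]
    refine ⟨_, ⟨?_, _, J4Order.cj_lt g v hg, rfl⟩, rfl⟩
    show α (Eg (app (J4Order.cjs.getD g []) v)) = Eg (app (J4Order.cjs.getD g []) v)
    interval_cases g
    · exact hconj (w := [0]) (by decide) hv hv hfixv
    · exact hconj (w := [2]) (by decide) hv hv hfixv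
  have hne0 : fixedE ≠ 0 := fun h0 => by rw [h0] at hne; simp at hne
  have hle : eG ≤ U := J4Order.eG_le_of_normalized hU he hne0
    (by rw [← J4Inj.rho_Eg he]; exact ⟨_, ⟨hE, _, he, rfl⟩, rfl⟩)
  intro v hv
  obtain ⟨y, ⟨hy', -⟩, e⟩ := hle (J4Order.eA_mem hv)
  rw [← J4Inj.rho_Eg hv] at e
  have := J4Inj.rho_injective e
  subst this
  exact hy'

/-! ### the other complements -/

theorem twist_checks : (eqW (toE ++ [0]) (eW toEVal ++ toE) && Nat.blt toEVal 2048 &&
    fixCert fixXK fixXC [([0], fixXL.getD 0 [])] && fixXC.all (fun c => Nat.blt c 72057594037927936) &&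
    loCert fixTwK fixTwC (eW 30 ++ [0]) 62 && toE.all (fun k => Nat.blt k 17)) = true := by decide +kernel

theorem no_twist (hE : ∀ v < 2048, α (Eg v) = Eg v) : α (jk [0]) ≠ Eg 30 * jk [0] := by
  intro hx
  have h := twist_checks
  simp only [Bool.and_eq_true, Nat.blt_eq, List.all_eq_true] at h
  obtain ⟨⟨⟨⟨⟨hg, hv⟩, hup⟩, hC⟩, hlo⟩, hg6⟩ := h
  set g := gwG toE with hgdef
  have e1 : g * jk [0] = Eg toEVal * g := by
    apply J4Inj.rho_injective
    rw [map_mul, map_mul, hgdef, J4Inj.rho_gwG hg6, J4Inj.rho_jk (by simp),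
      J4Inj.rho_Eg hv, ← J4Order.el_append, eA, ← J4Order.el_append]
    exact el_eq hg
  have e2 := congrArg α e1
  rw [map_mul, map_mul, hE _ hv, hx] at e2
  have hconj : Eg 30 * jk [0] = ((α g)⁻¹ * g) * jk [0] * ((α g)⁻¹ * g)⁻¹ := by
    calc Eg 30 * jk [0] = (α g)⁻¹ * (α g * (Eg 30 * jk [0])) := by group
      _ = (α g)⁻¹ * (Eg toEVal * g) * g⁻¹ * α g := by rw [e2]; group
      _ = (α g)⁻¹ * (g * jk [0]) * g⁻¹ * α g := by rw [e1]
      _ = _ := by group
  have hcard := card_fixed_conj (σ := rho (jk [0])) (τ := rho (Eg 30 * jk [0])) (g := rho ((α g)⁻¹ * g))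
    (by rw [hconj]; simp only [map_mul, map_inv])
  rw [map_mul, J4Inj.rho_Eg (by norm_num : 30 < 2048), J4Inj.rho_jk (by simp), eA, ← J4Order.el_append] at hcard
  have hhi := card_fixed_le (n := 56) (w := [0]) (by simp)
    (fun c hc => lt_of_lt_of_eq (hC c hc) (by norm_num)) hup
  have hl := le_card_fixed (n := 62) (w := eW 30 ++ [0]) (fun k hk => by
    rcases List.mem_append.1 hk with hk | hk
    · exact (J4Order.mem_eW hk).2
    · rw [List.mem_singleton] at hk; omega) hlo
  rw [hcard] at hl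
  exact absurd (hl.trans hhi) (by norm_num)

/-! ### the third generator -/

/-- A word over the two generators of the centraliser, in full. -/
noncomputable def expandC (w : List ℕ) : List ℕ := w.flatMap fun i => cond (Nat.beq i 0) [0] uWord

theorem cent_checks :
    ((List.range 24).all fun i => Nat.beq (pget (J4Pres.pword (expandC (reachWords.getD i []))) 0) i) = true ∧
    ((List.range 24).all fun q => Nat.beq q 0 || pointStab.any fun w =>
      Nat.beq (pget (J4Pres.pword (expandC w)) 0) 0 && !Nat.beq (pget (J4Pres.pword (expandC w)) q) q) = true ∧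
    (Nat.beq (J4Pres.pword uPos) (J4Pres.pword uWord) && twoLow uPos &&
      (List.range 2048).all fun v => !Nat.beq (app conjX v) v || !Nat.beq (cjW uPos v) v || Nat.beq v 0) = true := by
  refine ⟨?_, ?_, ?_⟩ <;> decide +kernel

theorem eq_one_of_commute_K0 {k : J4Pres.K0} (h0 : Commute k (J4Pres.val [0]))
    (hu : Commute k (J4Pres.val uWord)) : k = 1 := by
  have hw : ∀ w : List ℕ, Commute k (J4Pres.val (expandC w)) := by
    intro w
    induction w with
    | nil => exact Commute.one_right k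
    | cons i w ih =>
      rw [show expandC (i :: w) = cond (Nat.beq i 0) [0] uWord ++ expandC w from rfl, J4Pres.val_append]
      refine Commute.mul_right ?_ ih
      cases Nat.beq i 0
      · exact hu
      · exact h0
  set σ : Equiv.Perm GolayPt := ((J4Pres.toM24 k : ↥M24) : Equiv.Perm GolayPt) with hσ
  have hrep : ∀ w : List ℕ, ∀ x, σ (((J4Pres.toM24 (J4Pres.val (expandC w)) : ↥M24) : Equiv.Perm GolayPt) x) =
      ((J4Pres.toM24 (J4Pres.val (expandC w)) : ↥M24) : Equiv.Perm GolayPt) (σ x) := by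
    intro w x
    have h := congrArg (fun g => ((J4Pres.toM24 g : ↥M24) : Equiv.Perm GolayPt)) (hw w).eq
    simp only [map_mul, Subgroup.coe_mul] at h
    exact Equiv.ext_iff.1 h x
  have hR : ∀ w x, pget (J4Pres.pword (expandC w)) (ix x) =
      ix (((J4Pres.toM24 (J4Pres.val (expandC w)) : ↥M24) : Equiv.Perm GolayPt) x) := by
    intro w x
    rw [J4Inj.toM24_val]
    exact J4Pres.rep_word (expandC w) x
  have h00 : ix (pt 0) = 0 := ix_pt (by norm_num)
  have hfix : σ (pt 0) = pt 0 := by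
    by_contra hne
    have hq : ix (σ (pt 0)) ≠ 0 := fun h => hne (ix_injective (h.trans h00.symm))
    have h := List.all_eq_true.1 cent_checks.2.1 _ (List.mem_range.2 (ix_lt (σ (pt 0))))
    rw [Bool.or_eq_true] at h
    rcases h with h | h
    · exact hq (Nat.eq_of_beq_eq_true h)
    · obtain ⟨w, -, h⟩ := List.any_eq_true.1 h
      rw [Bool.and_eq_true, Bool.not_eq_true'] at h
      have h1 := hR w (pt 0)
      rw [h00, Nat.eq_of_beq_eq_true h.1] at h1
      have h3 : ((J4Pres.toM24 (J4Pres.val (expandC w)) : ↥M24) : Equiv.Perm GolayPt) (pt 0) = pt 0 :=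
        ix_injective (h1.symm.trans h00.symm)
      have h2 := hR w (σ (pt 0))
      rw [← hrep w, h3] at h2
      rw [h2] at h
      simp at h
  apply J4Pres.toM24_injective
  rw [map_one]
  refine Subtype.ext (Equiv.ext fun x => ?_)
  show σ x = x
  have h := List.all_eq_true.1 cent_checks.1 _ (List.mem_range.2 (ix_lt x))
  have h1 := hR (reachWords.getD (ix x) []) (pt 0)
  rw [h00, Nat.eq_of_beq_eq_true h] at h1
  rw [ix_injective h1, hrep, hfix]

theorem rho_zero (g : Spor.J4) : rho g ⟨0, by norm_num⟩ = (⟨0, by norm_num⟩ : V) := by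
  have hle : J4Order.hG ≤ MulAction.stabilizer (Equiv.Perm V) (⟨0, by norm_num⟩ : V) := by
    rw [J4Order.hG, Subgroup.closure_le]
    rintro _ (rfl | rfl | rfl) <;>
    · rw [SetLike.mem_coe, MulAction.mem_stabilizer_iff]
      refine Subtype.ext ?_
      simp only [tP, Equiv.Perm.smul_def]
      rw [J4Order.let2_apply (by norm_num)]
      exact J4Rep.app_zero _
  exact MulAction.mem_stabilizer_iff.1 (hle (rho_mem g))

theorem pair_check : (fixCert [oneVec, vecAt 0] fixPairC [([0], fixPairL.getD 0 []), (uWord, fixPairL.getD 1 [])] &&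
    !Nat.beq (vecAt 0) oneVec && !Nat.beq oneVec 0) = true := by decide +kernel

theorem fix_jT (h : Fixes α) (hx : α (jk [0]) = jk [0]) (hy : α (jk [2]) = jk [2]) : α jT = jT := by
  have hfix : ∀ w : List ℕ, α (jk w) = jk w := by
    have hL : ∀ k, α (jk [k]) = jk [k] := by
      have hsub : toJ4.range ≤ MonoidHom.eqLocus α.toMonoidHom (MonoidHom.id _) := by
        rw [MonoidHom.range_eq_map, ← PresentedGroup.closure_range_of J4Pres.rels, MonoidHom.map_closure,
          Subgroup.closure_le]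
        rintro _ ⟨_, ⟨i, rfl⟩, rfl⟩
        have hi : toJ4 (PresentedGroup.of i) = jk [2 * i.val] := by
          rw [jk_single]
          congr 1
          fin_cases i <;> simp [J4Pres.L, J4Pres.fr, PresentedGroup.of]
        show α (toJ4 (PresentedGroup.of i)) = toJ4 (PresentedGroup.of i)
        rw [hi]
        fin_cases i
        · exact hx
        · exact hy
      intro k
      rw [jk_single]
      exact hsub ⟨_, rfl⟩
    intro w
    induction w with
    | nil => rw [J4Inj.jk_nil, map_one]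
    | cons k w ih => rw [show k :: w = [k] ++ w from rfl, J4Inj.jk_append, map_mul, hL, ih]
  set S := α jT with hS
  have cX : Commute (jk [0]) S := by
    have := congrArg α J4Inj.comm_x.eq
    rwa [map_mul, map_mul, hfix] at this
  have cU : Commute (jk uWord) S := by
    have := congrArg α J4Inj.comm_u.eq
    rwa [map_mul, map_mul, hfix] at this
  have hu4 : ∀ k ∈ uWord, k < 4 := by decide
  have hlow : ∀ w, (∀ k ∈ w, k < 4) → rho (jk w) oneV = oneV := fun w _ =>
    fix_nG (J4Inj.rho_mem_nG (J4Inj.jk_mem w))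
  have hfx : ∀ w, (∀ k ∈ w, k < 4) → Commute (jk w) S → runW tbl2 w (rho S oneV).1 = (rho S oneV).1 := by
    intro w hw hc
    rw [← el_apply (fun k hk => by have := hw k hk; omega), ← J4Inj.rho_jk hw, ← Equiv.Perm.mul_apply,
      ← map_mul, hc.eq, map_mul, Equiv.Perm.mul_apply, hlow w hw]
  have hp := pair_check
  simp only [Bool.and_eq_true, Bool.not_eq_true'] at hp
  obtain ⟨⟨hcert, hv0⟩, hone⟩ := hp
  have hv : (rho S oneV).1 = app [oneVec, vecAt 0] (app fixPairC (rho S oneV).1) :=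
    eq_app_of_fixed hcert (rho S oneV).2 (by
      intro p hp
      simp only [List.mem_cons, List.not_mem_nil, or_false] at hp
      rcases hp with rfl | rfl
      · exact hfx [0] (by simp) cX
      · exact hfx uWord hu4 cU)
  let Q : ℕ → Prop := fun x => x = 0 ∨ x = oneVec ∨ x = vecAt 0 ∨ x = oneVec ^^^ vecAt 0
  have hQ : Q (rho S oneV).1 := by
    rw [hv]
    refine app_mem (Or.inl rfl) ?_ _ ?_ _
    · intro a b ha hb
      rcases ha with rfl | rfl | rfl | rfl <;> rcases hb with rfl | rfl | rfl | rfl <;>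
        simp [Q, Nat.xor_comm (vecAt 0) oneVec]
    · intro c hc
      simp only [List.mem_cons, List.not_mem_nil, or_false] at hc
      rcases hc with rfl | rfl
      · exact Or.inr (Or.inl rfl)
      · exact Or.inr (Or.inr (Or.inl rfl))
  rcases hQ with h0 | h1 | h2 | h3
  · exfalso
    have e : rho S oneV = (⟨0, by norm_num⟩ : V) := Subtype.ext h0
    have e' := (rho S).injective (e.trans (rho_zero S).symm)
    have e'' : oneVec = 0 := congrArg Subtype.val e'
    rw [e''] at hone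
    simp at hone
  · exfalso
    have hmem : S ∈ Nh.map α.toMonoidHom := h.nh.symm ▸ mem_Nh_of_fix (Subtype.ext h1)
    obtain ⟨x, hx', e⟩ := hmem
    rw [α.injective e] at hx'
    have hf := fix_nG (J4Inj.rho_mem_nG hx')
    rw [J4Inj.rho_jT, J4Order.tP_one] at hf
    have hf' : vecAt 0 = oneVec := congrArg Subtype.val hf
    rw [hf'] at hv0
    simp at hv0
  · have e : rho S oneV = vA 0 := Subtype.ext h2
    have hz : jT * S ∈ Nh := mem_Nh_of_fix (by
      rw [map_mul, Equiv.Perm.mul_apply, e, J4Inj.rho_jT, ← J4Order.tP_one, ← Equiv.Perm.mul_apply,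
        J4Order.tP_sq, Equiv.Perm.one_apply])
    obtain ⟨a, ha, k, hk⟩ := hz
    have hc : ∀ w, twoLow w = true → Commute (jk w) (jT * S) → cjW w a = a ∧ Commute (J4Pres.val w) k := by
      intro w hw hc
      have h' : Eg (cjW w a) * toJ4 (J4Pres.val w * k) = Eg a * toJ4 (k * J4Pres.val w) := by
        rw [map_mul, map_mul, ← jk_conj hw ha, ← mul_assoc (Eg a), ← hk]
        show jk w * Eg a * (jk w)⁻¹ * (jk w * toJ4 k) = jT * S * jk w
        rw [show jk w * Eg a * (jk w)⁻¹ * (jk w * toJ4 k) = jk w * (Eg a * toJ4 k) by group, ← hk, hc.eq]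
      exact split (cjW_lt w ha) ha h'
    have hchk := cent_checks.2.2
    simp only [Bool.and_eq_true, List.all_eq_true, List.mem_range, Bool.or_eq_true, Bool.not_eq_true'] at hchk
    obtain ⟨⟨hpu, hlu⟩, hfix0⟩ := hchk
    have hval := J4Inj.val_eq_of_pword hpu
    have hjk : jk uPos = jk uWord := congrArg toJ4 hval
    obtain ⟨a1, k1⟩ := hc [0] (by decide) (J4Inj.comm_x.mul_right cX)
    obtain ⟨a2, k2⟩ := hc uPos hlu (hjk ▸ J4Inj.comm_u.mul_right cU)
    have hk1 : k = 1 := eq_one_of_commute_K0 k1.symm (hval ▸ k2.symm)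
    have ha0 : a = 0 := by
      rcases hfix0 a ha with (h' | h') | h'
      · rw [show app conjX a = a from a1] at h'
        simp at h'
      · rw [a2] at h'
        simp at h'
      · exact Nat.eq_of_beq_eq_true h'
    rw [ha0, hk1, J4Inj.Eg_zero, map_one, mul_one] at hk
    exact (eq_inv_of_mul_eq_one_right hk).trans J4Inj.jT_inv
  · exact absurd h3 (sum_not_orbit S)

theorem eq_one (h : Fixes α) (hx : α (jk [0]) = jk [0]) (hy : α (jk [2]) = jk [2]) : α = 1 := by
  have ht := fix_jT h hx hy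
  have hgen : ∀ g : Spor.J4.Gen, α (PresentedGroup.of g) = PresentedGroup.of g := by
    have h0 : jk [0] = PresentedGroup.of Spor.J4.Gen.x := by
      rw [jk_single]; exact J4Rep.lift_fr (k := 0) (by norm_num)
    have h2 : jk [2] = PresentedGroup.of Spor.J4.Gen.y := by
      rw [jk_single]; exact J4Rep.lift_fr (k := 2) (by norm_num)
    intro g
    cases g
    · rw [← h0]; exact hx
    · rw [← h2]; exact hy
    · exact ht
  exact MulEquiv.toMonoidHom_injective (PresentedGroup.ext fun g => hgen g)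

end Alpha

theorem aut_inner (φ : MulAut Spor.J4) : φ ∈ Cfsg.Inn Spor.J4 := by
  obtain ⟨g1, h1⟩ := exists_fix_PS φ
  refine inn_of_mul (g := g1) ?_
  have hE := fix_EH h1
  obtain ⟨g2, h2⟩ := exists_level (⟨hE, fix_Nh hE⟩ : Fixes (MulAut.conj g1 * φ))
  refine inn_of_mul (g := g2) ?_
  obtain ⟨g3, h3, hy⟩ := exists_fix_y h2
  refine inn_of_mul (g := g3) ?_
  obtain ⟨g4, h4, hy', hx⟩ := exists_fix_xy h3 hy
  refine inn_of_mul (g := g4) ?_
  rcases hx with hx | hx
  · rw [eq_one h4.fixes hx hy']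
    exact one_mem _
  · exact absurd hx (no_twist (fix_translations h4 (by norm_num : 30 < 2048) hx hy'))

theorem out_trivial : Nat.card (Cfsg.Out Spor.J4) = 1 := by
  rw [← Subgroup.index_eq_card, Subgroup.index_eq_one, eq_top_iff]
  exact fun φ _ => aut_inner φ

end CfsgLib.Sporadic.J4Out
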