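import Cfsg.Agent.Lib.Sporadic.J4Inj.Iso
import Cfsg.Agent.Lib.Sporadic.J4Out.Linear

/-!
# The translations of the presented J4 and their normaliser (owner: helper21)
-/

set_option autoImplicit false
set_option maxRecDepth 40000

namespace CfsgLib.Sporadic.J4Out

open Cfsg
open CfsgLib.Sporadic.J4Inj (jk jT invK Eg Nh gwG)
open CfsgLib.Sporadic.J4Rep (V app runW toJ4 rho app_xor app_lt)
open CfsgLib.Sporadic.J4Order (strict strict_eq eqW el el_eq el_apply okW_iff tbl2 invW eA eG nG hG conjX conjY vecAt vA oneV oneVec repWs rE)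

/-! ### conjugation by words in the first two generators -/

/-- Only the letters 0 and 2. -/
noncomputable def twoLow (w : List ℕ) : Bool := w.all fun k => Nat.beq k 0 || Nat.beq k 2

theorem twoLow_low {w : List ℕ} (hw : twoLow w = true) : ∀ k ∈ w, k < 4 := by
  intro k hk
  have h := List.all_eq_true.1 hw k hk
  rw [Bool.or_eq_true] at h
  rcases h with h | h <;> (rw [Nat.eq_of_beq_eq_true h]; norm_num)

/-- The action of a word on the translations. -/
noncomputable def cjW (w : List ℕ) (a : ℕ) : ℕ :=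
  List.rec (motive := fun _ => ℕ) a (fun k _ ih => cond (Nat.beq k 0) (app conjX ih) (app conjY ih)) w

theorem cjW_cons (k : ℕ) (w : List ℕ) (a : ℕ) :
    cjW (k :: w) a = cond (Nat.beq k 0) (app conjX (cjW w a)) (app conjY (cjW w a)) := rfl

theorem cjW_lt : ∀ (w : List ℕ) {a : ℕ}, a < 2048 → cjW w a < 2048
  | [], _, h => h
  | k :: w, a, _ => by
    rw [cjW_cons]
    cases Nat.beq k 0
    · exact J4Order.cj_lt 1 _ (by norm_num)
    · exact J4Order.cj_lt 0 _ (by norm_num)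

theorem cjW_xor : ∀ (w : List ℕ) (a b : ℕ), cjW w (a ^^^ b) = cjW w a ^^^ cjW w b
  | [], _, _ => rfl
  | k :: w, a, b => by
    rw [cjW_cons, cjW_cons, cjW_cons, cjW_xor w]
    cases Nat.beq k 0 <;> simp only [cond_true, cond_false, app_xor]

theorem jk_conj : ∀ {w : List ℕ}, twoLow w = true → ∀ {a : ℕ}, a < 2048 →
    jk w * Eg a * (jk w)⁻¹ = Eg (cjW w a)
  | [], _, a, _ => by rw [J4Inj.jk_nil]; simp [cjW]
  | k :: w, h, a, ha => by
    simp only [twoLow, List.all_cons, Bool.and_eq_true, Bool.or_eq_true] at h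
    have ih := jk_conj (w := w) h.2 ha
    have hlt := cjW_lt w ha
    rw [show k :: w = [k] ++ w from rfl, J4Inj.jk_append, show jk [k] * jk w * Eg a * (jk [k] * jk w)⁻¹ =
      jk [k] * (jk w * Eg a * (jk w)⁻¹) * (jk [k])⁻¹ by group, ih, show [k] ++ w = k :: w from rfl, cjW_cons]
    rcases h.1 with hk | hk <;> obtain rfl := Nat.eq_of_beq_eq_true hk
    · exact J4Inj.Eg_conj_x hlt
    · exact J4Inj.Eg_conj_y hlt

theorem Eg_inj {a b : ℕ} (ha : a < 2048) (hb : b < 2048) (h : Eg a = Eg b) : a = b := by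
  have h' := congrArg rho h
  rw [J4Inj.rho_Eg ha, J4Inj.rho_Eg hb] at h'
  exact Nat.xor_eq_zero_iff.1 (J4Order.eA_injOn (Nat.xor_lt_two_pow (n := 11) ha hb)
    (by rw [J4Order.eA_xor, h', J4Order.eA_sq]))

theorem split {a b : ℕ} (ha : a < 2048) (hb : b < 2048) {k l : J4Pres.K0}
    (h : Eg a * toJ4 k = Eg b * toJ4 l) : a = b ∧ k = l := by
  have h' := congrArg rho h
  rw [map_mul, map_mul, J4Inj.rho_Eg ha, J4Inj.rho_Eg hb] at h'
  obtain ⟨h1, h2⟩ := J4Order.split_unique (J4Order.eA_mem ha) (J4Order.eA_mem hb) h'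
  refine ⟨Eg_inj ha hb (J4Inj.rho_injective ?_), h2⟩
  rw [J4Inj.rho_Eg ha, J4Inj.rho_Eg hb, h1]

/-- The translations. -/
noncomputable def EH : Subgroup Spor.J4 where
  carrier := {x | ∃ a < 2048, x = Eg a}
  one_mem' := ⟨0, by norm_num, J4Inj.Eg_zero.symm⟩
  mul_mem' := by
    rintro _ _ ⟨a, ha, rfl⟩ ⟨b, hb, rfl⟩
    exact ⟨a ^^^ b, Nat.xor_lt_two_pow (n := 11) ha hb, (J4Inj.Eg_xor a b).symm⟩
  inv_mem' := by
    rintro _ ⟨a, ha, rfl⟩
    exact ⟨a, ha, inv_eq_of_mul_eq_one_right (J4Inj.Eg_sq a)⟩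

theorem card_EH : Nat.card EH = 2048 := by
  let f : Fin 2048 → EH := fun a => ⟨Eg a.1, a.1, a.2, rfl⟩
  have hf : Function.Bijective f := by
    refine ⟨fun a b h => Fin.ext (Eg_inj a.2 b.2 (congrArg Subtype.val h)), fun x => ?_⟩
    obtain ⟨a, ha, e⟩ := x.2
    exact ⟨⟨a, ha⟩, Subtype.ext e.symm⟩
  rw [← Nat.card_eq_of_bijective f hf, Nat.card_fin]

theorem EH_le : EH ≤ Nh := by
  rintro _ ⟨a, ha, rfl⟩
  exact J4Inj.Eg_mem ha

theorem conj_EH {x : Spor.J4} (hx : x ∈ Nh) {e : Spor.J4} (he : e ∈ EH) : x * e * x⁻¹ ∈ EH := by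
  obtain ⟨a, ha, k, rfl⟩ := hx
  obtain ⟨b, hb, rfl⟩ := he
  obtain ⟨c, hc, e⟩ := J4Inj.conj_all k b hb
  refine ⟨c, hc, ?_⟩
  rw [show Eg a * toJ4 k * Eg b * (Eg a * toJ4 k)⁻¹ = Eg a * (toJ4 k * Eg b * (toJ4 k)⁻¹) * (Eg a)⁻¹ by group, e,
    inv_eq_of_mul_eq_one_right (J4Inj.Eg_sq a), ← J4Inj.Eg_xor, ← J4Inj.Eg_xor]
  congr 1
  rw [Nat.xor_comm a c, Nat.xor_assoc, Nat.xor_self, Nat.xor_zero]

/-- The projection to the copy of M24. -/
noncomputable def proj : ↥Nh →* J4Pres.K0 where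
  toFun x := x.2.choose_spec.2.choose
  map_one' := by
    obtain ⟨ha, he⟩ := (1 : ↥Nh).2.choose_spec
    exact ((split (a := 0) (k := 1) (by norm_num) ha (by rw [← he.choose_spec, J4Inj.Eg_zero, map_one, one_mul]; rfl)).2).symm
  map_mul' x y := by
    obtain ⟨hx, ex⟩ := x.2.choose_spec
    obtain ⟨hy, ey⟩ := y.2.choose_spec
    obtain ⟨hxy, exy⟩ := (x * y).2.choose_spec
    obtain ⟨c, hc, e⟩ := J4Inj.conj_all ex.choose _ hy
    refine (split hxy (Nat.xor_lt_two_pow (n := 11) hx hc) (k := exy.choose) (l := ex.choose * ey.choose) ?_).2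
    rw [← exy.choose_spec, J4Inj.Eg_xor, ← e, map_mul, Subgroup.coe_mul]
    conv_lhs => rw [ex.choose_spec, ey.choose_spec]
    group

theorem proj_eq {a : ℕ} (ha : a < 2048) {k : J4Pres.K0} {x : ↥Nh} (h : x.1 = Eg a * toJ4 k) : proj x = k := by
  obtain ⟨hb, he⟩ := x.2.choose_spec
  exact (split hb ha (he.choose_spec.symm.trans h)).2

theorem exists_split (x : ↥Nh) : ∃ a < 2048, x.1 = Eg a * toJ4 (proj x) :=
  ⟨_, x.2.choose_spec.1, x.2.choose_spec.2.choose_spec⟩

/-! ### the fixed vector -/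

theorem orbit_checks :
    (List.range 7).all (fun j => Nat.beq j 0 || !Nat.beq (runW tbl2 (repWs.getD j []) oneVec) oneVec) = true ∧
    (List.range 7).all (fun j => strict (Nat.xor (runW tbl2 (repWs.getD j []) oneVec) oneVec) fun r =>
      (List.range 15180).all fun p => !Nat.beq (vecAt p) r) = true ∧
    (List.range 7).all (fun j => Nat.beq j 0 || strict (runW tbl2 (invW (repWs.getD j [])) oneVec) fun r =>
      (List.range 11).any fun i => !Nat.beq (runW tbl2 [6 + i] r) r) = true := by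
  refine ⟨?_, ?_, ?_⟩ <;> decide +kernel

theorem rep_lt {j : ℕ} (hj : j < 7) : ∀ k ∈ repWs.getD j [], k < 17 := fun k hk => by
  simpa using List.all_eq_true.1 (List.all_eq_true.1 J4Inj.repWs_ok j (List.mem_range.2 hj)) k hk

theorem rE_one_val {j : ℕ} (hj : j < 7) : (rE j oneV).1 = runW tbl2 (repWs.getD j []) oneVec := by
  rw [rE, el_apply (rep_lt hj)]; rfl

theorem fix_nG {n : Equiv.Perm V} (hn : n ∈ nG) : n oneV = oneV :=
  MulAction.mem_stabilizer_iff.1 (J4Order.nG_le_fix hn)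

theorem rho_mem (g : Spor.J4) : rho g ∈ hG := J4Inj.range_rho ▸ ⟨g, rfl⟩

/-- The stabiliser of the fixed vector. -/
theorem mem_Nh_of_fix {g : Spor.J4} (h : rho g oneV = oneV) : g ∈ Nh := by
  obtain ⟨j, hj, a, ha, b, hb, e⟩ := J4Order.mem_hG_iff.1 (rho_mem g)
  have hj0 : j = 0 := by
    rw [e, Equiv.Perm.mul_apply, Equiv.Perm.mul_apply, fix_nG hb] at h
    have h1 : rE j oneV = oneV := by
      have h' := congrArg (a⁻¹ : Equiv.Perm V) h
      rwa [Equiv.Perm.coe_inv, Equiv.symm_apply_apply, ← Equiv.Perm.coe_inv, fix_nG (inv_mem ha)] at h'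
    have hc := List.all_eq_true.1 orbit_checks.1 j (List.mem_range.2 hj)
    rw [Bool.or_eq_true] at hc
    rcases hc with hc | hc
    · exact Nat.eq_of_beq_eq_true hc
    · rw [show runW tbl2 (repWs.getD j []) oneVec = oneVec by rw [← rE_one_val hj, h1]; rfl] at hc
      simp at hc
  subst hj0
  obtain ⟨x, hx, ex⟩ := J4Inj.exists_pre (show a * rE 0 * b ∈ nG by
    rw [J4Order.rE_zero, mul_one]; exact mul_mem ha hb)
  exact J4Inj.rho_injective (ex.trans e.symm) ▸ hx

/-- The sum of the fixed vector and its image under the third generator is in no orbit of the fixed vector. -/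
theorem sum_not_orbit (g : Spor.J4) : (rho g oneV).1 ≠ oneVec ^^^ vecAt 0 := by
  intro h
  obtain ⟨j, hj, a, ha, b, hb, e⟩ := J4Order.mem_hG_iff.1 (rho_mem g)
  obtain ⟨p, hp, ep⟩ := J4Order.points.2 a⁻¹ (inv_mem ha)
  have h1 : a (rE j oneV) = ⟨oneVec ^^^ vecAt 0, Nat.xor_lt_two_pow (oneV.2) (J4Order.vecAt_lt 0)⟩ := by
    refine Subtype.ext ?_
    show (a (rE j oneV)).1 = oneVec ^^^ vecAt 0
    rw [← h, e, Equiv.Perm.mul_apply, Equiv.Perm.mul_apply, fix_nG hb]
  have hlin : (rE j oneV).1 = oneVec ^^^ vecAt p := by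
    have h2 := congrArg (a⁻¹ : Equiv.Perm V) h1
    rw [Equiv.Perm.coe_inv, Equiv.symm_apply_apply, ← Equiv.Perm.coe_inv] at h2
    rw [h2]
    have hadd : ∀ u v : V, (a⁻¹ ⟨u.1 ^^^ v.1, Nat.xor_lt_two_pow u.2 v.2⟩).1 = (a⁻¹ u).1 ^^^ (a⁻¹ v).1 := by
      obtain ⟨w, hw, ew⟩ := el_of_mem (inv_mem ha)
      intro u v
      rw [← ew, el_apply hw, el_apply hw, el_apply hw, J4Rep.runW_xor]
    have := hadd oneV (vA 0)
    rw [fix_nG (inv_mem ha), ep] at this
    exact this
  have hc := List.all_eq_true.1 orbit_checks.2.1 j (List.mem_range.2 hj)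
  rw [strict_eq, List.all_eq_true] at hc
  have hc' := hc p (List.mem_range.2 hp)
  rw [show Nat.xor (runW tbl2 (repWs.getD j []) oneVec) oneVec = vecAt p by
    rw [← rE_one_val hj, hlin]
    show oneVec ^^^ vecAt p ^^^ oneVec = vecAt p
    rw [Nat.xor_comm oneVec, Nat.xor_assoc, Nat.xor_self, Nat.xor_zero]] at hc'
  simp at hc'
where
  el_of_mem {n : Equiv.Perm V} (hn : n ∈ nG) : ∃ w : List ℕ, (∀ k ∈ w, k < 17) ∧ el w = n := by
    obtain ⟨_, ⟨a, ha, rfl⟩, k, rfl⟩ := J4Order.mem_nG.1 hn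
    obtain ⟨w, hw, hk⟩ := exists_word k
    refine ⟨J4Order.eW a ++ w, ?_, ?_⟩
    · intro i hi
      rcases List.mem_append.1 hi with hi | hi
      · exact (J4Order.mem_eW hi).2
      · have := hw i hi; omega
    · rw [J4Order.el_append, J4Order.el_eq_rK hw, hk]; rfl
  exists_word (k : J4Pres.K0) : ∃ w : List ℕ, (∀ i ∈ w, i < 4) ∧ J4Pres.val w = k := by
    have hk : k ∈ Subgroup.closure (Set.range (PresentedGroup.of (rels := J4Pres.rels))) := by
      rw [PresentedGroup.closure_range_of]; trivial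
    have hgen : ∀ i : Fin 2, J4Pres.val [2 * i.val] = PresentedGroup.of i := fun i => by
      fin_cases i <;> simp [J4Pres.val, J4Pres.L, J4Pres.fr, PresentedGroup.of]
    induction hk using Subgroup.closure_induction_left with
    | one => exact ⟨[], by simp, rfl⟩
    | mul_left y hy z _ ih =>
      obtain ⟨i, rfl⟩ := hy
      obtain ⟨w, hw, rfl⟩ := ih
      refine ⟨[2 * i.val] ++ w, ?_, by rw [J4Pres.val_append, hgen]⟩
      intro j hj
      rcases List.mem_append.1 hj with hj | hj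
      · rw [List.mem_singleton] at hj; omega
      · exact hw j hj
    | inv_mul_cancel y hy z _ ih =>
      obtain ⟨i, rfl⟩ := hy
      obtain ⟨w, hw, rfl⟩ := ih
      refine ⟨invK [2 * i.val] ++ w, ?_, by
        rw [J4Pres.val_append]
        congr 1
        apply J4Rep.toJ4_injective
        rw [← hgen, map_inv]
        exact J4Inj.jk_invK _⟩
      intro j hj
      rcases List.mem_append.1 hj with hj | hj
      · exact J4Inj.invK_low (by simp; omega) j hj
      · exact hw j hj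

/-- The normaliser of the translations. -/
theorem mem_Nh_of_normalizes {g : Spor.J4} (h : ∀ e ∈ EH, g * e * g⁻¹ ∈ EH) : g ∈ Nh := by
  obtain ⟨j, hj, a, ha, b, hb, e⟩ := J4Order.mem_hG_iff.1 (rho_mem g)
  obtain ⟨a', ha', rfl⟩ := J4Inj.exists_pre ha
  obtain ⟨b', hb', rfl⟩ := J4Inj.exists_pre hb
  have hj0 : j = 0 := by
    have hc := List.all_eq_true.1 orbit_checks.2.2 j (List.mem_range.2 hj)
    rw [Bool.or_eq_true] at hc
    rcases hc with hc | hc
    · exact Nat.eq_of_beq_eq_true hc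
    exfalso
    rw [strict_eq, List.any_eq_true] at hc
    obtain ⟨i, hi, hne⟩ := hc
    rw [List.mem_range] at hi
    set r := a'⁻¹ * g * b'⁻¹ with hr
    have hrho : rho r = rE j := by rw [hr, map_mul, map_mul, map_inv, map_inv, e]; group
    have hmem : r * Eg (2 ^ i) * r⁻¹ ∈ EH := by
      have h1 : (2 : ℕ) ^ i < 2048 := Nat.pow_lt_pow_right (m := i) (n := 11) (by norm_num) hi
      have h2 : b'⁻¹ * Eg (2 ^ i) * b'⁻¹⁻¹ ∈ EH := conj_EH (inv_mem hb') ⟨_, h1, rfl⟩
      have h3 := conj_EH (inv_mem ha') (h _ h2)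
      convert h3 using 1
      rw [hr]
      group
    have hfix : rho (r * Eg (2 ^ i) * r⁻¹) oneV = oneV := fix_nG (J4Inj.rho_mem_nG (EH_le hmem))
    rw [map_mul, map_mul, map_inv, hrho, J4Inj.rho_Eg (Nat.pow_lt_pow_right (m := i) (n := 11) (by norm_num) hi),
      J4Order.eA_unit hi, Equiv.Perm.mul_apply, Equiv.Perm.mul_apply] at hfix
    have hfix' : J4Order.let2 (6 + i) ((rE j)⁻¹ oneV) = (rE j)⁻¹ oneV := by
      have := congrArg ((rE j)⁻¹ : Equiv.Perm V) hfix
      rwa [Equiv.Perm.coe_inv, Equiv.symm_apply_apply] at this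
    have hv := congrArg Subtype.val hfix'
    rw [rE, ← J4Order.el_invW (rep_lt hj), J4Order.let2_apply (by omega),
      el_apply (fun k hk => by
        simp only [invW, List.mem_reverse, List.mem_map] at hk
        obtain ⟨c, hc', rfl⟩ := hk
        exact J4Order.inv2_lt (rep_lt hj c hc'))] at hv
    have hv' : runW tbl2 [6 + i] (runW tbl2 (invW (repWs.getD j [])) oneVec) =
        runW tbl2 (invW (repWs.getD j [])) oneVec := hv
    rw [hv'] at hne
    simp at hne
  subst hj0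
  rw [J4Order.rE_zero, mul_one, ← map_mul] at e
  rw [J4Inj.rho_injective e]
  exact mul_mem ha' hb'

end CfsgLib.Sporadic.J4Out
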