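import Cfsg.Agent.Lib.Sporadic.J4Out.Normal
import Cfsg.Agent.Lib.Sporadic.MathieuTwentyFourMultiplier

/-!
# The translations are the one normal elementary abelian subgroup of their order in a Sylow 2-subgroup
(owner: helper21)

The normal elementary abelian subgroups of a Sylow 2-subgroup of M24 are listed; each non-trivial one times its
fixed translations has fewer than 2048 elements.
-/

set_option autoImplicit false
set_option maxRecDepth 100000

namespace CfsgLib.Sporadic.J4Out

open Cfsg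
open CfsgLib.Sporadic.J4Inj (jk Eg Nh)
open CfsgLib.Sporadic.J4Rep (toJ4 app app_xor)
open CfsgLib.Sporadic.Mult (wprod Table pk pk_injective pk_prod map_wprod all_edges wprod_append)
open CfsgLib.Sporadic.MTwentyFourMult (twoTable gen member H24 two_table_ok two_words pk_gen)

/-- The generators of the Sylow subgroup. -/
noncomputable def tS (i : ℕ) : J4Pres.K0 := J4Pres.val (sylWords.getD i [])

/-- An element of the Sylow subgroup from its number. -/
noncomputable def elS (p : ℕ) : J4Pres.K0 := wprod tS (twoTable.wd p)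

/-- Following a word in the table. -/
def runIx (q : ℕ) (w : List ℕ) : ℕ := w.foldl twoTable.nx q

theorem syl_checks : (List.range 4).all (fun i => twoLow (sylWords.getD i []) &&
      Nat.beq (J4Pres.pword (sylWords.getD i [])) (gen i)) = true ∧
    twoTable.rels.all (fun W => W.all (fun i => Nat.blt i 4) &&
      Nat.beq (Mult.pprod (W.map gen)) pone) = true ∧
    (List.range 4).all (fun i => decide ([i, i] ∈ twoTable.rels)) = true := by
  refine ⟨?_, ?_, ?_⟩ <;> decide +kernel

/-- Into the Mathieu group. -/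
noncomputable def toH : J4Pres.K0 →* ↥H24 :=
  (Subgroup.topEquiv : ↥H24 ≃* ↥M24).symm.toMonoidHom.comp J4Pres.toM24

theorem toH_injective : Function.Injective toH :=
  (Subgroup.topEquiv : ↥H24 ≃* ↥M24).symm.injective.comp J4Pres.toM24_injective

theorem toH_tS {i : ℕ} (hi : i < 4) : toH (tS i) = Mult.el member (gen i) := by
  have h := List.all_eq_true.1 syl_checks.1 i (List.mem_range.2 hi)
  rw [Bool.and_eq_true] at h
  have h1 := J4Pres.rep_word (sylWords.getD i [])
  rw [Nat.eq_of_beq_eq_true h.2, ← J4Inj.toM24_val] at h1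
  have h2 : Rep ((Mult.el member (gen i) : ↥M24) : Equiv.Perm GolayPt) (gen i) := by
    have h := rep_packImage ((Mult.el member (gen i) : ↥M24) : Equiv.Perm GolayPt)
    rwa [show packImage ((Mult.el member (gen i) : ↥M24) : Equiv.Perm GolayPt) = gen i from pk_gen hi] at h
  exact Subtype.ext (Subtype.ext (h1.unique h2))

theorem toH_wprod {W : List ℕ} (hW : ∀ i ∈ W, i < 4) :
    toH (wprod tS W) = wprod (fun i => Mult.el member (gen i)) W := by
  rw [map_wprod]
  exact congrArg List.prod (List.map_congr_left fun i hi => toH_tS (hW i hi))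

theorem rels_one : ∀ W ∈ twoTable.rels, wprod tS W = 1 := by
  intro W hW
  have h := List.all_eq_true.1 syl_checks.2.1 W hW
  simp only [Bool.and_eq_true, List.all_eq_true, Nat.blt_eq] at h
  apply toH_injective
  rw [map_one, toH_wprod h.1]
  apply pk_injective
  rw [Mult.pk_one, wprod, pk_prod, List.map_map,
    List.map_congr_left (f := pk ∘ fun i => Mult.el member (gen i)) (g := gen) fun i hi => pk_gen (h.1 i hi)]
  exact Nat.eq_of_beq_eq_true h.2

theorem edge {p : ℕ} (hp : p < 1024) {i : ℕ} (hi : i < 4) :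
    twoTable.nx p i < 1024 ∧ elS p * tS i = elS (twoTable.nx p i) :=
  (all_edges two_table_ok rels_one).2.2 p hp i hi

theorem elS_zero : elS 0 = 1 := by
  rw [elS, (all_edges two_table_ok rels_one).2.1]
  rfl

theorem wd_lt {p : ℕ} (hp : p < 1024) : ∀ i ∈ twoTable.wd p, i < 4 := two_words.1 ⟨p, hp⟩

theorem elS_run : ∀ (w : List ℕ), (∀ i ∈ w, i < 4) → ∀ q < 1024,
    runIx q w < 1024 ∧ elS q * wprod tS w = elS (runIx q w)
  | [], _, q, hq => ⟨hq, by simp [wprod, runIx]⟩
  | i :: w, h, q, hq => by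
    obtain ⟨h1, h2⟩ := edge hq (h i List.mem_cons_self)
    obtain ⟨h3, h4⟩ := elS_run w (fun j hj => h j (List.mem_cons_of_mem _ hj)) _ h1
    refine ⟨h3, ?_⟩
    rw [Mult.wprod_cons, ← mul_assoc, h2, h4]
    rfl

theorem elS_run_zero {w : List ℕ} (hw : ∀ i ∈ w, i < 4) : runIx 0 w < 1024 ∧ wprod tS w = elS (runIx 0 w) := by
  have h := elS_run w hw 0 (by norm_num)
  rwa [elS_zero, one_mul] at h

theorem elS_inj {p q : ℕ} (hp : p < 1024) (hq : q < 1024) (h : elS p = elS q) : p = q := by
  have hi := Mult.injOn_words member (gens := CfsgLib.Sporadic.MTwentyFourMult.gens) (D := twoTable)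
    (t := fun i => Mult.el member (gen i)) (fun i hi => pk_gen hi) (fun p hp => wd_lt hp) two_words.2
  refine hi hp hq ?_
  show wprod _ (twoTable.wd p) = wprod _ (twoTable.wd q)
  rw [← toH_wprod (wd_lt hp), ← toH_wprod (wd_lt hq)]
  exact congrArg toH h

theorem tS_sq {i : ℕ} (hi : i < 4) : tS i * tS i = 1 := by
  have h := rels_one [i, i] (of_decide_eq_true (List.all_eq_true.1 syl_checks.2.2 i (List.mem_range.2 hi)))
  simpa [wprod] using h

theorem tS_inv {i : ℕ} (hi : i < 4) : (tS i)⁻¹ = tS i := inv_eq_of_mul_eq_one_right (tS_sq hi)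

theorem wprod_reverse : ∀ {w : List ℕ}, (∀ i ∈ w, i < 4) → wprod tS w.reverse = (wprod tS w)⁻¹
  | [], _ => by simp [wprod]
  | i :: w, h => by
    rw [List.reverse_cons, wprod_append, wprod_reverse fun j hj => h j (List.mem_cons_of_mem _ hj),
      Mult.wprod_cons, Mult.wprod_cons, mul_inv_rev, tS_inv (h i List.mem_cons_self)]
    simp [wprod]

/-- The Sylow 2-subgroup of the copy of M24. -/
noncomputable def SK : Subgroup J4Pres.K0 where
  carrier := {s | ∃ p < 1024, s = elS p}
  one_mem' := ⟨0, by norm_num, elS_zero.symm⟩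
  mul_mem' := by
    rintro _ _ ⟨p, hp, rfl⟩ ⟨q, hq, rfl⟩
    obtain ⟨h1, h2⟩ := elS_run _ (wd_lt hq) p hp
    exact ⟨_, h1, h2⟩
  inv_mem' := by
    rintro _ ⟨p, hp, rfl⟩
    obtain ⟨h1, h2⟩ := elS_run_zero (w := (twoTable.wd p).reverse)
      (fun i hi => wd_lt hp i (List.mem_reverse.1 hi))
    exact ⟨_, h1, by rw [← h2, wprod_reverse (wd_lt hp)]; rfl⟩

theorem tS_mem {i : ℕ} (hi : i < 4) : tS i ∈ SK := by
  obtain ⟨h1, h2⟩ := edge (p := 0) (by norm_num) hi
  exact ⟨_, h1, by rw [← h2, elS_zero, one_mul]⟩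

theorem card_SK : Nat.card SK = 1024 := by
  let f : Fin 1024 → SK := fun p => ⟨elS p.1, p.1, p.2, rfl⟩
  have hf : Function.Bijective f := by
    refine ⟨fun p q h => Fin.ext (elS_inj p.2 q.2 (congrArg Subtype.val h)), fun x => ?_⟩
    obtain ⟨p, hp, e⟩ := x.2
    exact ⟨⟨p, hp⟩, Subtype.ext e.symm⟩
  rw [← Nat.card_eq_of_bijective f hf, Nat.card_fin]

/-- The Sylow 2-subgroup of the presented J4. -/
noncomputable def PS : Subgroup Spor.J4 := (SK.comap proj).map Nh.subtype

theorem mem_PS {x : Spor.J4} : x ∈ PS ↔ ∃ a < 2048, ∃ s ∈ SK, x = Eg a * toJ4 s := by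
  constructor
  · rintro ⟨y, hy, rfl⟩
    obtain ⟨a, ha, e⟩ := exists_split y
    exact ⟨a, ha, _, hy, e⟩
  · rintro ⟨a, ha, s, hs, rfl⟩
    have hmem : Eg a * toJ4 s ∈ Nh := ⟨a, ha, s, rfl⟩
    exact ⟨⟨_, hmem⟩, show proj ⟨_, hmem⟩ ∈ SK by rwa [proj_eq ha rfl], rfl⟩

theorem EH_le_PS : EH ≤ PS := by
  rintro _ ⟨a, ha, rfl⟩
  exact mem_PS.2 ⟨a, ha, 1, one_mem _, by rw [map_one, mul_one]⟩

theorem PS_le : PS ≤ Nh := by
  rintro _ ⟨y, -, rfl⟩
  exact y.2

theorem card_PS : Nat.card PS = 2 ^ 21 := by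
  let f : Fin 2048 × SK → PS := fun x => ⟨Eg x.1.1 * toJ4 x.2.1, mem_PS.2 ⟨_, x.1.2, _, x.2.2, rfl⟩⟩
  have hf : Function.Bijective f := by
    refine ⟨fun x y h => ?_, fun x => ?_⟩
    · obtain ⟨h1, h2⟩ := split x.1.2 y.1.2 (congrArg Subtype.val h)
      exact Prod.ext (Fin.ext h1) (Subtype.ext h2)
    · obtain ⟨a, ha, s, hs, e⟩ := mem_PS.1 x.2
      exact ⟨(⟨a, ha⟩, ⟨s, hs⟩), Subtype.ext e.symm⟩
  rw [← Nat.card_eq_of_bijective f hf, Nat.card_prod, Nat.card_fin, card_SK]
  norm_num

/-! ### normal elementary abelian subgroups -/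

/-- A normal subgroup below another one in a 2-group has a central element above it. -/
theorem exists_central_step {G : Type*} [Group G] [Finite G] (hG : IsPGroup 2 G) {K A : Subgroup G} [hK : K.Normal]
    [hA : A.Normal] (hKA : K < A) : ∃ a ∈ A, a ∉ K ∧ ∀ g, g * a * g⁻¹ * a⁻¹ ∈ K := by
  haveI : Fact (Nat.Prime 2) := ⟨Nat.prime_two⟩
  set M := A.map (QuotientGroup.mk' K) with hM
  haveI hMn : M.Normal := hA.map _ (QuotientGroup.mk'_surjective K)
  letI : MulAction G M := MulAction.compHom M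
    ((MulAut.conjNormal : G ⧸ K →* MulAut M).comp (QuotientGroup.mk' K))
  have hne : M ≠ ⊥ := fun h => hKA.2 (by
    have h' := (Subgroup.map_eq_bot_iff _).1 h
    rwa [QuotientGroup.ker_mk'] at h')
  have h2 : 2 ∣ Nat.card M := ((hG.to_quotient K).to_subgroup M).card_eq_or_dvd.resolve_left
    fun h => hne (Subgroup.card_le_one_iff_eq_bot _ |>.1 h.le)
  have h1 : (1 : M) ∈ MulAction.fixedPoints G M := fun g =>
    map_one ((MulAut.conjNormal (QuotientGroup.mk' K g) : MulAut M))
  obtain ⟨b, hb, hb1⟩ := hG.exists_fixed_point_of_prime_dvd_card_of_fixed_point M h2 h1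
  obtain ⟨a, ha, e⟩ := b.2
  refine ⟨a, ha, fun h => hb1 (Subtype.ext ?_), fun g => ?_⟩
  · rw [← e]
    exact ((QuotientGroup.eq_one_iff a).2 h).symm
  · have h3 := congrArg Subtype.val (hb g)
    change (MulAut.conjNormal (QuotientGroup.mk' K g) b : G ⧸ K) = b at h3
    rw [MulAut.conjNormal_apply, ← e, ← map_inv, ← map_mul, ← map_mul] at h3
    refine (QuotientGroup.eq_one_iff _).1 ?_
    show QuotientGroup.mk' K (g * a * g⁻¹ * a⁻¹) = 1
    rw [map_mul, h3, ← map_mul, mul_inv_cancel, map_one]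

/-- The elements with numbers in a set. -/
def img (m : ℕ) : Set J4Pres.K0 := {s | ∃ p < 1024, m.testBit p = true ∧ s = elS p}

/-- The numbers in a set. -/
def bits (m : ℕ) : List ℕ := (List.range 1024).filter fun p => m.testBit p

/-- Adjoining an element. -/
def union (m : ℕ) (w : List ℕ) : ℕ := (bits m).foldl (fun M h => M ||| 1 <<< runIx h w) m

/-- Closure of the list under central extension by involutions. -/
def stepOK : Bool :=
  normalAb.all fun c => twoTable.word.zipIdx.all fun wp =>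
    c.1.testBit wp.2 || !Nat.beq (runIx 0 (wp.1 ++ wp.1)) 0 ||
      !((List.range 4).all fun i => c.1.testBit (runIx 0 (i :: (wp.1 ++ i :: wp.1)))) ||
      !(c.2.all fun g => Nat.beq (runIx 0 (twoTable.wd g ++ wp.1)) (runIx 0 (wp.1 ++ twoTable.wd g))) ||
      normalAb.any fun c' => Nat.beq c'.1 (union c.1 wp.1)

theorem step_check : (stepOK && normalAb.all (fun c => c.2.all fun g => Nat.blt g 1024 && c.1.testBit g) &&
    normalAb.any (fun c => Nat.beq c.1 1) && Nat.beq twoTable.word.length 1024) = true := by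
  decide +kernel

theorem testBit_fold (w : List ℕ) : ∀ (l : List ℕ) (M q : ℕ),
    (l.foldl (fun M h => M ||| 1 <<< runIx h w) M).testBit q = true ↔
      M.testBit q = true ∨ ∃ h ∈ l, runIx h w = q
  | [], M, q => by simp
  | h :: l, M, q => by
    rw [List.foldl_cons, testBit_fold w l, Nat.testBit_or, Nat.one_shiftLeft, Nat.testBit_two_pow, Bool.or_eq_true,
      decide_eq_true_eq]
    simp [or_assoc]

theorem classify {A : Subgroup J4Pres.K0} (hle : A ≤ SK) (hsq : ∀ a ∈ A, a * a = 1)
    (hn : ∀ s ∈ SK, ∀ a ∈ A, s * a * s⁻¹ ∈ A) :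
    ∃ i < normalAb.length, (A : Set J4Pres.K0) = img (normalAb.getD i (0, [])).1 := by
  haveI : Finite J4Pres.K0 := J4Pres.card_K0.1
  have hinv : ∀ a ∈ A, a⁻¹ = a := fun a ha => inv_eq_of_mul_eq_one_right (hsq a ha)
  have hcomm : ∀ a ∈ A, ∀ b ∈ A, a * b = b * a := fun a ha b hb => by
    have h := hinv _ (mul_mem ha hb)
    rwa [mul_inv_rev, hinv a ha, hinv b hb, eq_comm] at h
  have hchk := step_check
  simp only [Bool.and_eq_true] at hchk
  obtain ⟨⟨⟨hstep, hgens⟩, hbot⟩, hlen⟩ := hchk
  let good : Subgroup J4Pres.K0 → Prop := fun K =>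
    K ≤ A ∧ (∀ s ∈ SK, ∀ a ∈ K, s * a * s⁻¹ ∈ K) ∧ ∃ c ∈ normalAb, (K : Set J4Pres.K0) = img c.1
  have hgood : good ⊥ := by
    obtain ⟨c, hc, hc1⟩ := List.any_eq_true.1 hbot
    refine ⟨bot_le, fun s _ a ha => by rw [Subgroup.mem_bot] at ha ⊢; simp [ha], c, hc, ?_⟩
    rw [Nat.eq_of_beq_eq_true hc1]
    ext x
    simp only [Subgroup.coe_bot, Set.mem_singleton_iff, img, Set.mem_setOf_eq, Nat.testBit_one_eq_true_iff_self_eq_zero]
    constructor
    · rintro rfl; exact ⟨0, by norm_num, rfl, elS_zero.symm⟩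
    · rintro ⟨p, -, rfl, rfl⟩; exact elS_zero
  obtain ⟨K, hK, hmax⟩ := Set.exists_max_image {K | good K} (fun K => Nat.card K) (Set.toFinite _) ⟨⊥, hgood⟩
  obtain ⟨hKA, hKn, c, hc, hKc⟩ := hK
  rcases hKA.lt_or_eq with hlt | heq
  · exfalso
    have hS : IsPGroup 2 SK := IsPGroup.of_card (n := 10) (by rw [card_SK]; norm_num)
    haveI : (K.subgroupOf SK).Normal := ⟨fun x hx g => hKn _ g.2 _ hx⟩
    haveI : (A.subgroupOf SK).Normal := ⟨fun x hx g => hn _ g.2 _ hx⟩
    have hlt' : K.subgroupOf SK < A.subgroupOf SK := by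
      refine lt_of_le_of_ne (fun x hx => hKA hx) fun e => hlt.ne ?_
      rw [Subgroup.subgroupOf_inj, inf_eq_left.2 (hKA.trans hle), inf_eq_left.2 hle] at e
      exact e
    obtain ⟨⟨a, haS⟩, haA, haK, hcen⟩ := exists_central_step hS hlt'
    rw [Subgroup.mem_subgroupOf] at haA haK
    have hcen' : ∀ s ∈ SK, s * a * s⁻¹ * a ∈ K := fun s hs => by
      have h := hcen ⟨s, hs⟩
      rw [Subgroup.mem_subgroupOf] at h
      simp only [Subgroup.coe_mul, Subgroup.coe_inv, hinv a haA] at h
      exact h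
    obtain ⟨p, hp, hap⟩ := haS
    let K' : Subgroup J4Pres.K0 :=
      { carrier := {x | x ∈ A ∧ (x ∈ K ∨ x * a ∈ K)}
        one_mem' := ⟨one_mem _, Or.inl (one_mem _)⟩
        mul_mem' := by
          rintro x y ⟨hx, hx'⟩ ⟨hy, hy'⟩
          refine ⟨mul_mem hx hy, ?_⟩
          rcases hx' with hx' | hx' <;> rcases hy' with hy' | hy'
          · exact Or.inl (mul_mem hx' hy')
          · exact Or.inr (by rw [mul_assoc]; exact mul_mem hx' hy')
          · exact Or.inr (by
              rw [mul_assoc, hcomm y hy a haA, ← mul_assoc]; exact mul_mem hx' hy')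
          · refine Or.inl ?_
            have e : x * y = x * a * (y * a) := by
              rw [hcomm y hy a haA, mul_assoc, ← mul_assoc a a, hsq a haA, one_mul]
            rw [e]
            exact mul_mem hx' hy'
        inv_mem' := by
          rintro x ⟨hx, hx'⟩
          exact ⟨inv_mem hx, by rwa [hinv x hx]⟩ }
    have hK'n : ∀ s ∈ SK, ∀ x ∈ K', s * x * s⁻¹ ∈ K' := by
      rintro s hs x ⟨hx, hx'⟩
      refine ⟨hn s hs x hx, ?_⟩
      rcases hx' with hx' | hx'
      · exact Or.inl (hKn s hs x hx')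
      · refine Or.inr ?_
        have e : s * x * s⁻¹ * a = s * (x * a) * s⁻¹ * (s * a * s⁻¹ * a) := by
          calc s * x * s⁻¹ * a = s * x * (a * a) * s⁻¹ * a := by rw [hsq a haA, mul_one]
            _ = _ := by group
        rw [e]
        exact mul_mem (hKn s hs _ hx') (hcen' s hs)
    have hw := wd_lt hp
    have hset : (K' : Set J4Pres.K0) = img (union c.1 (twoTable.wd p)) := by
      ext x
      show (x ∈ A ∧ (x ∈ K ∨ x * a ∈ K)) ↔ x ∈ img (union c.1 (twoTable.wd p))
      constructor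
      · rintro ⟨hx, hx' | hx'⟩
        · obtain ⟨q, hq, hb, e⟩ := (hKc ▸ (SetLike.mem_coe.2 hx') : _ ∈ img c.1)
          exact ⟨q, hq, (testBit_fold _ _ _ _).2 (Or.inl hb), e⟩
        · obtain ⟨q, hq, hb, e⟩ := (hKc ▸ (SetLike.mem_coe.2 hx') : _ ∈ img c.1)
          obtain ⟨h1, h2⟩ := elS_run _ hw q hq
          refine ⟨_, h1, (testBit_fold _ _ _ _).2 (Or.inr ⟨q, ?_, rfl⟩), ?_⟩
          · exact List.mem_filter.2 ⟨List.mem_range.2 hq, hb⟩
          · rw [← h2, ← e, show wprod tS (twoTable.wd p) = a from hap.symm, mul_assoc, hsq a haA, mul_one]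
      · rintro ⟨q, hq, hb, rfl⟩
        rcases (testBit_fold _ _ _ _).1 hb with hb | ⟨h, hh, hrun⟩
        · have hk : elS q ∈ K := by rw [← SetLike.mem_coe, hKc]; exact ⟨q, hq, hb, rfl⟩
          exact ⟨hKA hk, Or.inl hk⟩
        · obtain ⟨hh1, hh2⟩ := List.mem_filter.1 hh
          rw [List.mem_range] at hh1
          have hk : elS h ∈ K := by rw [← SetLike.mem_coe, hKc]; exact ⟨h, hh1, hh2, rfl⟩
          obtain ⟨-, h2⟩ := elS_run _ hw h hh1
          rw [hrun, show wprod tS (twoTable.wd p) = a from hap.symm] at h2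
          rw [← h2]
          exact ⟨mul_mem (hKA hk) haA, Or.inr (by rwa [mul_assoc, hsq a haA, mul_one])⟩
    have hgood' : good K' := by
      refine ⟨fun x hx => hx.1, hK'n, ?_⟩
      have hlen' : twoTable.word.length = 1024 := Nat.eq_of_beq_eq_true hlen
      have hmem : (twoTable.wd p, p) ∈ twoTable.word.zipIdx := by
        rw [List.mem_zipIdx_iff_getElem?, Table.wd, List.getD_eq_getElem?_getD,
          List.getElem?_eq_getElem (by rw [hlen']; exact hp)]
        rfl
      have h := List.all_eq_true.1 (List.all_eq_true.1 hstep c hc) _ hmem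
      simp only [Bool.or_eq_true, Bool.not_eq_true'] at h
      rcases h with (((h | h) | h) | h) | h
      · exfalso
        apply haK
        rw [← SetLike.mem_coe, hKc]
        exact ⟨p, hp, h, hap⟩
      · exfalso
        obtain ⟨h1, h2⟩ := elS_run_zero (w := twoTable.wd p ++ twoTable.wd p) (fun i hi => by
          rcases List.mem_append.1 hi with hi | hi <;> exact hw i hi)
        have h3 : runIx 0 (twoTable.wd p ++ twoTable.wd p) = 0 := elS_inj h1 (by norm_num) (by
          rw [← h2, wprod_append, show wprod tS (twoTable.wd p) = a from hap.symm, hsq a haA, elS_zero])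
        rw [h3] at h
        simp at h
      · exfalso
        rw [List.all_eq_false] at h
        obtain ⟨i, hi, hb⟩ := h
        rw [List.mem_range] at hi
        obtain ⟨h1, h2⟩ := elS_run_zero (w := i :: (twoTable.wd p ++ i :: twoTable.wd p)) (fun j hj => by
          simp only [List.mem_cons, List.mem_append] at hj
          rcases hj with rfl | hj | rfl | hj
          · exact hi
          · exact hw j hj
          · exact hi
          · exact hw j hj)
        apply hb
        have hk := hcen' _ (tS_mem hi)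
        rw [← SetLike.mem_coe, hKc] at hk
        obtain ⟨q, hq, hqb, e⟩ := hk
        have hq' : runIx 0 (i :: (twoTable.wd p ++ i :: twoTable.wd p)) = q := elS_inj h1 hq (by
          rw [← h2, ← e, Mult.wprod_cons, wprod_append, Mult.wprod_cons, tS_inv hi,
            show wprod tS (twoTable.wd p) = a from hap.symm]
          simp only [mul_assoc])
        rw [hq']
        exact hqb
      · exfalso
        rw [List.all_eq_false] at h
        obtain ⟨g, hg, hb⟩ := h
        apply hb
        have hg' := List.all_eq_true.1 (List.all_eq_true.1 hgens c hc) g hg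
        rw [Bool.and_eq_true, Nat.blt_eq] at hg'
        have hgK : elS g ∈ K := by rw [← SetLike.mem_coe, hKc]; exact ⟨g, hg'.1, hg'.2, rfl⟩
        obtain ⟨u1, u2⟩ := elS_run_zero (w := twoTable.wd g ++ twoTable.wd p) (fun i hi => by
          rcases List.mem_append.1 hi with hi | hi
          · exact wd_lt hg'.1 i hi
          · exact hw i hi)
        obtain ⟨v1, v2⟩ := elS_run_zero (w := twoTable.wd p ++ twoTable.wd g) (fun i hi => by
          rcases List.mem_append.1 hi with hi | hi
          · exact hw i hi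
          · exact wd_lt hg'.1 i hi)
        have e : runIx 0 (twoTable.wd g ++ twoTable.wd p) = runIx 0 (twoTable.wd p ++ twoTable.wd g) :=
          elS_inj u1 v1 (by
            rw [← u2, ← v2, wprod_append, wprod_append, show wprod tS (twoTable.wd p) = a from hap.symm]
            exact hcomm _ (hKA hgK) a haA)
        rw [e]
        exact Nat.beq_refl _
      · obtain ⟨c', hc', e⟩ := List.any_eq_true.1 h
        exact ⟨c', hc', by rw [hset, Nat.eq_of_beq_eq_true e]⟩
    have hlt2 : K < K' := by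
      refine lt_of_le_of_ne (fun x hx => ⟨hKA hx, Or.inl hx⟩) fun e => haK ?_
      rw [e]
      exact ⟨haA, Or.inr (by rw [hsq a haA]; exact one_mem _)⟩
    have h1 : Nat.card K' ≤ Nat.card K := hmax K' hgood'
    have h2 := Set.ncard_lt_ncard (SetLike.coe_ssubset_coe.2 hlt2) (Set.toFinite _)
    rw [← Nat.card_coe_set_eq, ← Nat.card_coe_set_eq] at h2
    exact absurd h1 (not_le.2 h2)
  · obtain ⟨i, hi, e⟩ := List.getElem_of_mem hc
    exact ⟨i, hi, by rw [← heq, List.getD_eq_getElem _ _ hi, e, hKc]⟩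

/-! ### counting -/

/-- A word in the table acting on the translations. -/
noncomputable def matW (w : List ℕ) (a : ℕ) : ℕ :=
  List.rec (motive := fun _ => ℕ) a (fun i _ ih => app (sylMats.getD i []) ih) w

/-- The translations fixed by some maps. -/
noncomputable def fixedList (Ms : List (List ℕ)) : List ℕ :=
  (List.range 2048).filter fun v => Ms.all fun M => Nat.beq (app M v) v

/-- The check of one entry. -/
noncomputable def countOne (c : ℕ × List ℕ) (Ms : List (List ℕ)) : Bool :=
  Nat.beq c.1 1 || (Nat.beq c.2.length Ms.length &&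
    (c.2.zip Ms).all (fun gM => Nat.blt gM.1 1024 && c.1.testBit gM.1 &&
      (List.range 11).all fun j => Nat.beq (app gM.2 (1 <<< j)) (matW (twoTable.wd gM.1) (1 <<< j))) &&
    Nat.blt ((bits c.1).length * (fixedList Ms).length) 2048)

theorem count_check : ((List.range normalAb.length).all fun i =>
    countOne (normalAb.getD i (0, [])) (normalMats.getD i [])) = true := by decide +kernel

theorem mats_check : ((List.range 4).all fun i => (List.range 11).all fun j =>
    Nat.beq (app (sylMats.getD i []) (1 <<< j)) (cjW (sylWords.getD i []) (1 <<< j))) = true := by decide +kernel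

theorem conj_wprod : ∀ {w : List ℕ}, (∀ i ∈ w, i < 4) → ∀ {v : ℕ}, v < 2048 →
    matW w v < 2048 ∧ toJ4 (wprod tS w) * Eg v * (toJ4 (wprod tS w))⁻¹ = Eg (matW w v)
  | [], _, v, hv => ⟨hv, by simp [wprod, matW]⟩
  | i :: w, h, v, hv => by
    obtain ⟨h1, h2⟩ := conj_wprod (w := w) (fun j hj => h j (List.mem_cons_of_mem _ hj)) hv
    have hi := h i List.mem_cons_self
    have hl := (List.all_eq_true.1 syl_checks.1 i (List.mem_range.2 hi))
    rw [Bool.and_eq_true] at hl
    have e : app (sylMats.getD i []) (matW w v) = cjW (sylWords.getD i []) (matW w v) :=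
      eq_of_units (app_xor _) (cjW_xor _) 11 (fun j hj => by
        rw [← Nat.one_shiftLeft]
        exact Nat.eq_of_beq_eq_true (List.all_eq_true.1 (List.all_eq_true.1 mats_check i (List.mem_range.2 hi))
          j (List.mem_range.2 hj))) _ h1
    show app (sylMats.getD i []) (matW w v) < 2048 ∧ _
    refine ⟨by rw [e]; exact cjW_lt _ h1, ?_⟩
    rw [Mult.wprod_cons, map_mul, show toJ4 (tS i) * toJ4 (wprod tS w) * Eg v * (toJ4 (tS i) * toJ4 (wprod tS w))⁻¹ =
      toJ4 (tS i) * (toJ4 (wprod tS w) * Eg v * (toJ4 (wprod tS w))⁻¹) * (toJ4 (tS i))⁻¹ by group, h2]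
    show _ = Eg (app (sylMats.getD i []) (matW w v))
    rw [e]
    exact jk_conj hl.1 h1

theorem matW_xor : ∀ (w : List ℕ) (a b : ℕ), matW w (a ^^^ b) = matW w a ^^^ matW w b
  | [], _, _ => rfl
  | i :: w, a, b => by
    show app _ (matW w (a ^^^ b)) = app _ (matW w a) ^^^ app _ (matW w b)
    rw [matW_xor w, app_xor]

/-- The translations are the one normal elementary abelian subgroup of order 2048 of the Sylow subgroup. -/
theorem eq_EH {A : Subgroup Spor.J4} (hle : A ≤ PS) (hsq : ∀ x ∈ A, x * x = 1)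
    (hn : ∀ p ∈ PS, ∀ x ∈ A, p * x * p⁻¹ ∈ A) (hcard : Nat.card A = 2048) : A = EH := by
  haveI : Finite Spor.J4 := Nat.finite_of_card_ne_zero (by rw [J4Inj.isJ4.2]; norm_num)
  have hN : A ≤ Nh := hle.trans PS_le
  let f : ↥A →* J4Pres.K0 := proj.comp (Subgroup.inclusion hN)
  have hsplit : ∀ x : ↥A, ∃ a < 2048, (x : Spor.J4) = Eg a * toJ4 (f x) := fun x => exists_split (Subgroup.inclusion hN x)
  have hrange : f.range ≤ SK := by
    rintro _ ⟨x, rfl⟩
    obtain ⟨a, ha, s, hs, e⟩ := mem_PS.1 (hle x.2)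
    have : f x = s := proj_eq ha e
    rwa [this]
  have hrsq : ∀ s ∈ f.range, s * s = 1 := by
    rintro _ ⟨x, rfl⟩
    rw [← map_mul, show x * x = 1 from Subtype.ext (hsq _ x.2), map_one]
  have hrn : ∀ s ∈ SK, ∀ y ∈ f.range, s * y * s⁻¹ ∈ f.range := by
    rintro s hs _ ⟨x, rfl⟩
    have hp : toJ4 s ∈ PS := mem_PS.2 ⟨0, by norm_num, s, hs, by rw [J4Inj.Eg_zero, one_mul]⟩
    refine ⟨⟨_, hn _ hp _ x.2⟩, ?_⟩
    let P : ↥Nh := ⟨toJ4 s, PS_le hp⟩
    have hP : proj P = s := proj_eq (a := 0) (by norm_num) (by rw [J4Inj.Eg_zero, one_mul])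
    have e : (Subgroup.inclusion hN ⟨_, hn _ hp _ x.2⟩ : ↥Nh) = P * Subgroup.inclusion hN x * P⁻¹ := Subtype.ext rfl
    show proj _ = _
    rw [e, map_mul, map_mul, map_inv, hP]
    rfl
  obtain ⟨i, hi, hset⟩ := classify hrange hrsq hrn
  have hchk := List.all_eq_true.1 count_check i (List.mem_range.2 hi)
  set c := normalAb.getD i (0, []) with hc
  set Ms := normalMats.getD i [] with hMs
  simp only [countOne, Bool.or_eq_true, Bool.and_eq_true] at hchk
  rcases hchk with h1 | ⟨⟨hlen, hgens⟩, hlt⟩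
  · have hA : A ≤ EH := by
      intro x hx
      obtain ⟨a, ha, e⟩ := hsplit ⟨x, hx⟩
      have h : f ⟨x, hx⟩ ∈ img c.1 := hset ▸ (⟨⟨x, hx⟩, rfl⟩ : f ⟨x, hx⟩ ∈ f.range)
      obtain ⟨p, -, hb, ep⟩ := h
      rw [Nat.eq_of_beq_eq_true h1, Nat.testBit_one_eq_true_iff_self_eq_zero] at hb
      subst hb
      refine ⟨a, ha, ?_⟩
      rw [show x = _ from e, ep, elS_zero, map_one, mul_one]
    exact Subgroup.eq_of_le_of_card_ge hA (le_of_eq (by rw [hcard, card_EH]))
  · exfalso
    rw [Nat.blt_eq] at hlt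
    have hlen' := Nat.eq_of_beq_eq_true hlen
    have hker : Nat.card f.ker ≤ (fixedList Ms).length := by
      have hex : ∀ z : f.ker, ∃ v ∈ fixedList Ms, ((z : ↥A) : Spor.J4) = Eg v := by
        rintro ⟨z, hz⟩
        obtain ⟨v, hv, e⟩ := hsplit z
        rw [MonoidHom.mem_ker.1 hz, map_one, mul_one] at e
        refine ⟨v, ?_, e⟩
        rw [fixedList, List.mem_filter, List.mem_range, List.all_eq_true]
        refine ⟨hv, fun M hM => ?_⟩
        obtain ⟨k, hk, ek⟩ := List.getElem_of_mem hM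
        have hgm : (c.2[k]'(by omega), M) ∈ c.2.zip Ms := by
          rw [List.mem_iff_getElem]
          exact ⟨k, by rw [List.length_zip]; omega, by rw [List.getElem_zip, ek]⟩
        have h := List.all_eq_true.1 hgens _ hgm
        simp only [Bool.and_eq_true, Nat.blt_eq, List.all_eq_true, List.mem_range] at h
        obtain ⟨⟨hg, hgb⟩, hM'⟩ := h
        set g := c.2[k]'(by omega)
        have hmemr : elS g ∈ f.range := by
          rw [← SetLike.mem_coe, hset]; exact ⟨g, hg, hgb, rfl⟩
        obtain ⟨y, ey⟩ := hmemr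
        obtain ⟨b, hb, eb⟩ := hsplit y
        rw [ey] at eb
        have hcom : (y : Spor.J4) * Eg v = Eg v * (y : Spor.J4) := by
          rw [← e]
          have h := inv_eq_of_mul_eq_one_right (hsq _ (mul_mem y.2 z.2))
          rw [mul_inv_rev, inv_eq_of_mul_eq_one_right (hsq _ y.2), inv_eq_of_mul_eq_one_right (hsq _ z.2)] at h
          exact h.symm
        obtain ⟨hm1, hm2⟩ := conj_wprod (wd_lt hg) hv
        have e1 : toJ4 (elS g) * Eg v * (toJ4 (elS g))⁻¹ = Eg v := by
          have h : Eg b * (toJ4 (elS g) * Eg v) = Eg b * (Eg v * toJ4 (elS g)) := by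
            rw [eb] at hcom
            rw [← mul_assoc, hcom, ← mul_assoc, ← mul_assoc, ← J4Inj.Eg_xor, ← J4Inj.Eg_xor, Nat.xor_comm]
          rw [mul_left_cancel h, mul_inv_cancel_right]
        have e2 : matW (twoTable.wd g) v = v := Eg_inj hm1 hv (hm2.symm.trans e1)
        have e3 : app M v = matW (twoTable.wd g) v :=
          eq_of_units (app_xor _) (matW_xor _) 11 (fun j hj => by
            rw [← Nat.one_shiftLeft]; exact Nat.eq_of_beq_eq_true (hM' j hj)) v hv
        rw [e3, e2]
        exact Nat.beq_refl v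
      choose v hv he using hex
      refine le_trans (Nat.card_le_card_of_injective (fun z => (⟨v z, List.mem_toFinset.2 (hv z)⟩ :
        ((fixedList Ms).toFinset : Set ℕ))) ?_) ?_
      · intro z z' h
        have h' : v z = v z' := congrArg Subtype.val h
        exact Subtype.ext (Subtype.ext (by rw [he z, he z', h']))
      · rw [Nat.card_coe_set_eq, Set.ncard_coe_finset]
        exact List.toFinset_card_le _
    have hran : Nat.card f.range ≤ (bits c.1).length := by
      rw [show Nat.card f.range = ((f.range : Set J4Pres.K0)).ncard from Nat.card_coe_set_eq _, hset]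
      have hsub : img c.1 ⊆ elS '' ((bits c.1).toFinset : Set ℕ) := by
        rintro _ ⟨p, hp, hb, rfl⟩
        exact ⟨p, List.mem_toFinset.2 (List.mem_filter.2 ⟨List.mem_range.2 hp, hb⟩), rfl⟩
      refine (Set.ncard_le_ncard hsub ((Finset.finite_toSet _).image _)).trans ?_
      refine (Set.ncard_image_le (Finset.finite_toSet _)).trans ?_
      rw [Set.ncard_coe_finset]
      exact List.toFinset_card_le _
    have hmul : Nat.card A = Nat.card f.ker * Nat.card f.range := by
      rw [← f.ker.index_mul_card, Subgroup.index_ker, mul_comm]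
    have h3 := Nat.mul_le_mul hker hran
    rw [← hmul, hcard, mul_comm] at h3
    omega

end CfsgLib.Sporadic.J4Out
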